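import Mathlib
import Groth.Prelude.Def_Frob

/-! Perfections of schemes are, over every affine open, spectra of perfect closures. -/

universe u

open CategoryTheory AlgebraicGeometry Opposite

namespace Groth.Agent.PerfLib

/-- `i : A → A'` is a perfect closure, formulated without `CharP` (so zero rings are allowed). -/
structure IsPC (p : ℕ) {A A' : Type u} [CommRing A] [CommRing A'] (i : A →+* A') : Prop where
  zero : (p : A') = 0
  bij : Function.Bijective fun x : A' => x ^ p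
  pow_mem : ∀ x : A', ∃ n y, i y = x ^ p ^ n
  nil : ∀ y : A, i y = 0 → IsNilpotent y

variable {p : ℕ}

theorem bij_pow {A : Type u} [CommRing A] (h : Function.Bijective fun x : A => x ^ p) (n : ℕ) :
    Function.Bijective fun x : A => x ^ p ^ n := by
  have := h.iterate n
  rwa [pow_iterate] at this

theorem pc_nontrivial {A A' : Type u} [CommRing A] [CommRing A'] {i : A →+* A'} (hi : IsPC p i) [Nontrivial A] :
    Nontrivial A' := by
  by_contra h
  rw [not_nontrivial_iff_subsingleton] at h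
  exact not_isNilpotent_one (hi.nil 1 (Subsingleton.elim _ _))

variable [hp : Fact p.Prime]

theorem charP_of_zero {A : Type u} [CommRing A] [Nontrivial A] (h : (p : A) = 0) : CharP A p :=
  (CharP.charP_iff_prime_eq_zero hp.out).mpr h

theorem pc_radical {A A' : Type u} [CommRing A] [CommRing A'] {i : A →+* A'} (hi : IsPC p i) :
    IsPRadical i p where
  pow_mem' := hi.pow_mem
  ker_le' y hy := by
    obtain ⟨n, hn⟩ := hi.nil y hy
    exact mem_pNilradical.mpr ⟨n, pow_eq_zero_of_le (Nat.lt_pow_self hp.out.one_lt).le hn⟩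

theorem pc_lift {A A' B : Type u} [CommRing A] [CommRing A'] [CommRing B] {i : A →+* A'} (hi : IsPC p i)
    (hA : (p : A) = 0) (hB : Function.Bijective fun x : B => x ^ p) (j : A →+* B) :
    ∃! ψ : A' →+* B, ψ.comp i = j := by
  have huniq : ∀ ψ ψ' : A' →+* B, ψ.comp i = ψ'.comp i → ψ = ψ' := fun ψ ψ' h => RingHom.ext fun x => by
    obtain ⟨n, y, hy⟩ := hi.pow_mem x
    refine (bij_pow hB n).injective ?_
    show ψ x ^ p ^ n = ψ' x ^ p ^ n
    rw [← map_pow, ← map_pow, ← hy]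
    exact RingHom.congr_fun h y
  rcases subsingleton_or_nontrivial B with hs | hn
  · let z : A' →+* B :=
      { toFun := fun _ => 0
        map_one' := Subsingleton.elim _ _
        map_mul' := fun _ _ => Subsingleton.elim _ _
        map_zero' := Subsingleton.elim _ _
        map_add' := fun _ _ => Subsingleton.elim _ _ }
    exact ⟨z, RingHom.ext fun _ => Subsingleton.elim _ _, fun ψ _ => RingHom.ext fun _ => Subsingleton.elim _ _⟩
  · haveI : Nontrivial A := j.domain_nontrivial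
    haveI := pc_nontrivial hi
    haveI := charP_of_zero hA
    haveI := charP_of_zero hi.zero
    haveI := charP_of_zero (A := B) (by rw [← map_natCast j, hA, map_zero])
    haveI := pc_radical hi
    haveI : PerfectRing B p := ⟨hB⟩
    exact ⟨PerfectRing.lift i j p, PerfectRing.lift_comp i j p, fun ψ h => huniq _ _ (h.trans (PerfectRing.lift_comp i j p).symm)⟩

theorem exists_pc (A : Type u) [CommRing A] (hA : (p : A) = 0) :
    ∃ (A' : Type u) (_ : CommRing A') (i : A →+* A'), IsPC p i := by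
  rcases subsingleton_or_nontrivial A with h | h
  · exact ⟨A, inferInstance, RingHom.id A, hA, ⟨fun _ _ _ => Subsingleton.elim _ _, fun x => ⟨x, Subsingleton.elim _ _⟩⟩,
      fun x => ⟨0, x, by simp⟩, fun y hy => ⟨1, by simpa using hy⟩⟩
  · haveI := charP_of_zero hA
    haveI : IsPRadical (PerfectClosure.of A p) p := PerfectClosure.isPRadical A p
    refine ⟨PerfectClosure A p, inferInstance, PerfectClosure.of A p, CharP.cast_eq_zero _ _, ?_,
      IsPRadical.pow_mem _ p, fun y hy => ?_⟩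
    · exact PerfectRing.bijective_frobenius (R := PerfectClosure A p) (p := p)
    · obtain ⟨n, hn⟩ := mem_pNilradical.mp (IsPRadical.ker_le (PerfectClosure.of A p) p hy)
      exact ⟨_, hn⟩

/-! ### Perfect schemes -/

omit hp in
theorem isCharP_spec (R : CommRingCat.{u}) (h : (p : R) = 0) : FrobSch.IsCharP (Spec R) p := ⟨by
  apply (Scheme.ΓSpecIso R).commRingCatIsoToRingEquiv.injective
  rw [map_natCast, map_zero]; exact h⟩

theorem bij_sections {X : Scheme.{u}} [FrobSch.IsCharP X p] (h : FrobSch.IsPerfect X p) (U : X.Opens) :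
    Function.Bijective fun s : Γ(X, U) => s ^ p := by
  have : IsIso (FrobSch.frob X p) := h
  exact ConcreteCategory.bijective_of_isIso ((FrobSch.frob X p).app U)

theorem restrict_frob {X : Scheme.{u}} [FrobSch.IsCharP X p] (U : X.Opens) [FrobSch.IsCharP U.toScheme p] :
    FrobSch.frob X p ∣_ U = FrobSch.frob U.toScheme p := by
  rw [← cancel_mono U.ι, morphismRestrict_ι]
  exact (FrobSch.frob_comp p U.ι).symm

theorem isPerfect_open {X : Scheme.{u}} [FrobSch.IsCharP X p] (h : FrobSch.IsPerfect X p) (U : X.Opens)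
    [FrobSch.IsCharP U.toScheme p] : FrobSch.IsPerfect U.toScheme p := by
  have : IsIso (FrobSch.frob X p) := h
  have h2 : IsIso (FrobSch.frob X p ∣_ U) := inferInstance
  rw [restrict_frob] at h2
  exact h2

theorem isPerfect_of_iso {X X' : Scheme.{u}} [FrobSch.IsCharP X p] [FrobSch.IsCharP X' p] (e : X ≅ X')
    (h : FrobSch.IsPerfect X' p) : FrobSch.IsPerfect X p := by
  have : IsIso (FrobSch.frob X' p) := h
  have h1 : FrobSch.frob X p = e.hom ≫ FrobSch.frob X' p ≫ e.inv := by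
    rw [← FrobSch.frob_comp_assoc p e.hom, e.hom_inv_id, Category.comp_id]
  show IsIso (FrobSch.frob X p)
  rw [h1]; infer_instance

theorem isPerfect_of_cover {X : Scheme.{u}} [FrobSch.IsCharP X p] {ι : Type*} (U : ι → X.Opens) (hU : ⨆ k, U k = ⊤)
    (h : ∀ k, haveI := FrobSch.IsCharP.of_hom (U k).ι p; FrobSch.IsPerfect (U k).toScheme p) :
    FrobSch.IsPerfect X p := by
  refine (IsZariskiLocalAtTarget.iff_of_iSup_eq_top (P := MorphismProperty.isomorphisms Scheme.{u})
    (f := FrobSch.frob X p) U hU).mpr fun k => ?_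
  haveI := FrobSch.IsCharP.of_hom (U k).ι p
  show IsIso _
  rw [restrict_frob]
  exact h k

theorem isPerfect_spec (R : CommRingCat.{u}) [FrobSch.IsCharP (Spec R) p] (h : (p : R) = 0)
    (hb : Function.Bijective fun x : R => x ^ p) : FrobSch.IsPerfect (Spec R) p := by
  have h1 : FrobSch.frob (Spec R) p = Spec.map (CommRingCat.ofHom (FrobSch.powHom p R h)) := by
    apply ext_of_isAffine
    rw [← cancel_epi (Scheme.ΓSpecIso R).inv]
    rw [← Scheme.ΓSpecIso_inv_naturality]
    ext x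
    show ((Scheme.ΓSpecIso R).inv x) ^ p = (Scheme.ΓSpecIso R).inv (x ^ p)
    exact (map_pow ((Scheme.ΓSpecIso R).inv.hom) x p).symm
  have : IsIso (CommRingCat.ofHom (FrobSch.powHom p R h)) :=
    (ConcreteCategory.isIso_iff_bijective _).mpr hb
  show IsIso (FrobSch.frob (Spec R) p)
  rw [h1]; infer_instance

theorem bij_pow_spec (R : CommRingCat.{u}) [FrobSch.IsCharP (Spec R) p] (h : FrobSch.IsPerfect (Spec R) p) :
    Function.Bijective fun x : R => x ^ p := by
  let e := (Scheme.ΓSpecIso R).commRingCatIsoToRingEquiv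
  have h1 := (e.bijective.comp (bij_sections h ⊤)).comp e.symm.bijective
  have h2 : (e ∘ fun s => s ^ p) ∘ e.symm = fun x : R => x ^ p := funext fun x => by simp
  rwa [h2] at h1

theorem perfection_spec {A A' : CommRingCat.{u}} (i : A ⟶ A') (hA : (p : A) = 0) (hi : IsPC p i.hom)
    [FrobSch.IsCharP (Spec A') p] : FrobSch.IsPerfection (Spec.map i) p := by
  refine ⟨isPerfect_spec A' hi.zero hi.bij, fun Y _ hY => ?_⟩
  have key : ∀ j : A ⟶ Γ(Y, ⊤), ∃! ψ : A' ⟶ Γ(Y, ⊤), i ≫ ψ = j := fun j => by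
    obtain ⟨ψ, h1, h2⟩ := pc_lift hi hA (bij_sections hY ⊤) j.hom
    exact ⟨CommRingCat.ofHom ψ, CommRingCat.hom_ext h1,
      fun g hg => CommRingCat.hom_ext (h2 g.hom (congrArg CommRingCat.Hom.hom hg))⟩
  constructor
  · intro g g' e
    apply ext_of_isAffine
    rw [← cancel_epi (Scheme.ΓSpecIso A').inv]
    refine (key ((Scheme.ΓSpecIso A).inv ≫ (g ≫ Spec.map i).appTop)).unique ?_ ?_
    · rw [Scheme.Hom.comp_appTop, Scheme.ΓSpecIso_inv_naturality_assoc]
    · rw [show g ≫ Spec.map i = g' ≫ Spec.map i from e, Scheme.Hom.comp_appTop, Scheme.ΓSpecIso_inv_naturality_assoc]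
  · intro g
    obtain ⟨ψ, hψ, -⟩ := key ((Scheme.ΓSpecIso A).inv ≫ g.appTop)
    refine ⟨Y.toSpecΓ ≫ Spec.map ψ, ?_⟩
    show (Y.toSpecΓ ≫ Spec.map ψ) ≫ Spec.map i = g
    rw [Category.assoc, ← Spec.map_comp, hψ]
    apply ext_of_isAffine
    rw [Scheme.Hom.comp_appTop, Scheme.toSpecΓ_appTop, Scheme.ΓSpecIso_naturality]
    simp

/-! ### Structure of a perfection -/

section Perfection

variable {XP X : Scheme.{u}} {π : XP ⟶ X} [FrobSch.IsCharP XP p]

theorem perfection_postcomp_iso (h : FrobSch.IsPerfection π p) {X' : Scheme.{u}} (e : X ⟶ X') [IsIso e] :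
    FrobSch.IsPerfection (π ≫ e) p := by
  refine ⟨h.1, fun Y _ hY => ⟨fun g g' hg => (h.2 Y hY).injective ?_, fun g => ?_⟩⟩
  · simpa [← cancel_mono e, ← Category.assoc] using hg
  · obtain ⟨k, hk⟩ := (h.2 Y hY).surjective (g ≫ inv e)
    exact ⟨k, by
      show k ≫ π ≫ e = g
      rw [← Category.assoc, show k ≫ π = g ≫ inv e from hk, Category.assoc, IsIso.inv_hom_id, Category.comp_id]⟩

theorem perfection_unique (h : FrobSch.IsPerfection π p) {XP' : Scheme.{u}} {π' : XP' ⟶ X} [FrobSch.IsCharP XP' p]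
    (h' : FrobSch.IsPerfection π' p) : ∃ e : XP ≅ XP', e.hom ≫ π' = π := by
  obtain ⟨a, ha : a ≫ π' = π⟩ := (h'.2 XP h.1).surjective π
  obtain ⟨b, hb : b ≫ π = π'⟩ := (h.2 XP' h'.1).surjective π'
  refine ⟨⟨a, b, (h.2 XP h.1).injective ?_, (h'.2 XP' h'.1).injective ?_⟩, ha⟩
  · show (a ≫ b) ≫ π = 𝟙 XP ≫ π
    rw [Category.assoc, hb, ha, Category.id_comp]
  · show (b ≫ a) ≫ π' = 𝟙 XP' ≫ π'
    rw [Category.assoc, ha, hb, Category.id_comp]

theorem perfection_restrict (h : FrobSch.IsPerfection π p) (U : X.Opens)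
    [FrobSch.IsCharP (π ⁻¹ᵁ U).toScheme p] : FrobSch.IsPerfection (π ∣_ U) p := by
  refine ⟨isPerfect_open h.1 _, fun Y _ hY => ⟨fun g g' hg => ?_, fun g => ?_⟩⟩
  · rw [← cancel_mono (π ⁻¹ᵁ U).ι]
    refine (h.2 Y hY).injective ?_
    show (g ≫ _) ≫ π = (g' ≫ _) ≫ π
    simp only [Category.assoc, ← morphismRestrict_ι]
    rw [← Category.assoc, show g ≫ π ∣_ U = g' ≫ π ∣_ U from hg, Category.assoc]
  · obtain ⟨k, hk : k ≫ π = g ≫ U.ι⟩ := (h.2 Y hY).surjective (g ≫ U.ι)
    have hr : Set.range k ⊆ Set.range (π ⁻¹ᵁ U).ι := by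
      rintro _ ⟨y, rfl⟩
      rw [Scheme.Opens.range_ι]
      show π (k y) ∈ U
      rw [← Scheme.Hom.comp_apply, hk, Scheme.Hom.comp_apply]
      exact (g y).2
    refine ⟨IsOpenImmersion.lift (π ⁻¹ᵁ U).ι k hr, ?_⟩
    show IsOpenImmersion.lift (π ⁻¹ᵁ U).ι k hr ≫ π ∣_ U = g
    rw [← cancel_mono U.ι, Category.assoc, morphismRestrict_ι, IsOpenImmersion.lift_fac_assoc, hk]

omit hp [FrobSch.IsCharP XP p] in
theorem isPC_congr {A A' B B' : Type u} [CommRing A] [CommRing A'] [CommRing B] [CommRing B']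
    (i : A →+* A') (j : B →+* B') (a : B ≃+* A) (b : B' ≃+* A') (hc : ∀ x, b (j x) = i (a x))
    (hi : IsPC p i) : IsPC p j where
  zero := b.injective (by rw [map_natCast, map_zero, hi.zero])
  bij := by
    have h1 := (b.symm.bijective.comp hi.bij).comp b.bijective
    have h2 : (b.symm ∘ fun s => s ^ p) ∘ b = fun x : B' => x ^ p := funext fun x => by simp
    rwa [h2] at h1
  pow_mem x := by
    obtain ⟨n, y, hy⟩ := hi.pow_mem (b x)
    exact ⟨n, a.symm y, b.injective (by rw [hc, a.apply_symm_apply, hy, map_pow])⟩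
  nil y hy := by
    have := hi.nil (a y) (by rw [← hc, hy, map_zero])
    simpa using this.map a.symm.toRingHom

theorem affine_local (h : FrobSch.IsPerfection π p) [FrobSch.IsCharP X p] {U : X.Opens} (hU : IsAffineOpen U) :
    IsAffineOpen (π ⁻¹ᵁ U) ∧ IsPC p (π.app U).hom := by
  have hA : (p : Γ(X, U)) = 0 := FrobSch.natCast_eq_zero_app X p U
  obtain ⟨A', _, i, hi⟩ := exists_pc (p := p) Γ(X, U) hA
  haveI := isCharP_spec (p := p) (CommRingCat.of A') hi.zero
  haveI := FrobSch.IsCharP.of_hom (π ⁻¹ᵁ U).ι p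
  have h1 := perfection_postcomp_iso (perfection_restrict h U) hU.isoSpec.hom
  have h2 := perfection_spec (CommRingCat.ofHom i) hA hi
  obtain ⟨e, he⟩ := perfection_unique h1 h2
  haveI : IsAffine (π ⁻¹ᵁ U).toScheme := IsAffine.of_isIso e.hom
  refine ⟨‹_›, ?_⟩
  haveI : IsAffine U.toScheme := hU
  haveI : IsIso hU.isoSpec.hom.appTop := inferInstanceAs (IsIso (hU.isoSpec.hom.app ⊤))
  haveI : IsIso e.hom.appTop := inferInstanceAs (IsIso (e.hom.app ⊤))
  let a : Γ(X, U) ≅ Γ(X, U) := (Scheme.ΓSpecIso _).symm ≪≫ asIso hU.isoSpec.hom.appTop ≪≫ U.topIso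
  have hsq : a.hom ≫ π.app U =
      CommRingCat.ofHom i ≫ (Scheme.ΓSpecIso _).inv ≫ e.hom.appTop ≫ (π ⁻¹ᵁ U).topIso.hom := by
    have h3 := congrArg (fun f => (Scheme.ΓSpecIso _).inv ≫ Scheme.Hom.appTop f ≫ (π ⁻¹ᵁ U).topIso.hom) he
    simp only [Scheme.Hom.comp_appTop, Category.assoc, ← Scheme.ΓSpecIso_inv_naturality_assoc] at h3
    rw [h3]
    have h4 : (π ∣_ U).appTop ≫ (π ⁻¹ᵁ U).topIso.hom = U.topIso.hom ≫ π.app U := by
      simp [morphismRestrict_appTop, Scheme.Opens.topIso, Scheme.Hom.app_eq_appLE, Scheme.Hom.appLE_map, Scheme.Hom.map_appLE]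
      erw [Scheme.Hom.appLE_map, Scheme.Hom.map_appLE]
    simp only [a, Iso.trans_hom, asIso_hom, Iso.symm_hom, Category.assoc, h4]
  let b : CommRingCat.of A' ≅ Γ(XP, π ⁻¹ᵁ U) :=
    (Scheme.ΓSpecIso _).symm ≪≫ asIso e.hom.appTop ≪≫ (π ⁻¹ᵁ U).topIso
  refine isPC_congr i _ a.commRingCatIsoToRingEquiv.symm b.commRingCatIsoToRingEquiv.symm (fun x => ?_) hi
  apply b.commRingCatIsoToRingEquiv.injective
  rw [RingEquiv.apply_symm_apply]
  obtain ⟨y, rfl⟩ := a.commRingCatIsoToRingEquiv.surjective x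
  rw [RingEquiv.symm_apply_apply]
  exact congrArg (fun f => f.hom y) hsq

theorem isAffineHom_perfection (h : FrobSch.IsPerfection π p) [FrobSch.IsCharP X p] : IsAffineHom π :=
  ⟨fun _ hU => (affine_local h hU).1⟩

end Perfection

end Groth.Agent.PerfLib
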