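import Mathlib
import Groth.Agent.PerfLib.Basic
import Groth.Agent.FlatBasics.UnivHomeo
import Groth.Agent.EtaLib.SpecUH

/-! Perfections are universal homeomorphisms; permanence of properties of morphisms. -/

universe u

open CategoryTheory AlgebraicGeometry Limits Opposite TopologicalSpace

namespace Groth.Agent.PerfLib

variable {p : ℕ} [hp : Fact p.Prime]

theorem comap_surj {A A' : Type u} [CommRing A] [CommRing A'] {i : A →+* A'} (hi : IsPC p i) :
    Function.Surjective (PrimeSpectrum.comap i) := by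
  refine (PrimeSpectrum.isHomeomorph_comap i (fun x => ?_) ?_).bijective.2
  · obtain ⟨n, y, hy⟩ := hi.pow_mem x
    exact ⟨p ^ n, pow_pos hp.out.pos n, ⟨y, hy⟩⟩
  · exact fun x hx => mem_nilradical.mpr (hi.nil x hx)

theorem isUnivHomeo_spec {A A' : Type u} [CommRing A] [CommRing A'] {i : A →+* A'} (hi : IsPC p i) :
    FlatMor.IsUnivHomeo (Spec.map (CommRingCat.ofHom i)) := by
  refine (EtaLib.isUnivHomeo_Spec_iff i).mpr ⟨fun x => ?_, comap_surj hi, fun K _ g g' h => RingHom.ext fun x => ?_⟩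
  · obtain ⟨n, y, hy⟩ := hi.pow_mem x
    exact ⟨Polynomial.X ^ (p ^ n) - Polynomial.C y, Polynomial.monic_X_pow_sub_C _ (pow_ne_zero _ hp.out.ne_zero),
      by rw [Polynomial.eval₂_sub, Polynomial.eval₂_X_pow, Polynomial.eval₂_C, hy, sub_self]⟩
  · obtain ⟨n, y, hy⟩ := hi.pow_mem x
    haveI : CharP K p := charP_of_zero (by rw [← map_natCast g, hi.zero, map_zero])
    refine iterateFrobenius_inj K p n ?_
    simp only [iterateFrobenius_def, ← map_pow, ← hy]
    exact RingHom.congr_fun h y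

omit hp in
theorem morphismRestrict_eq_spec {X Y : Scheme.{u}} (f : X ⟶ Y) {U : Y.Opens} (hU : IsAffineOpen U)
    (hV : IsAffineOpen (f ⁻¹ᵁ U)) : f ∣_ U = hV.isoSpec.hom ≫ Spec.map (f.app U) ≫ hU.isoSpec.inv := by
  rw [← cancel_mono U.ι, morphismRestrict_ι]
  simp only [Category.assoc, IsAffineOpen.isoSpec_inv_ι]
  rw [Scheme.Hom.app_eq_appLE, IsAffineOpen.SpecMap_appLE_fromSpec f hU hV le_rfl, ← Category.assoc,
    IsAffineOpen.isoSpec_hom_fromSpec]

omit hp in
theorem restrict_appTop {X Y : Scheme.{u}} (f : X ⟶ Y) (U : Y.Opens) :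
    (f ∣_ U).appTop = U.topIso.hom ≫ f.app U ≫ (f ⁻¹ᵁ U).topIso.inv := by
  have h4 : (f ∣_ U).appTop ≫ (f ⁻¹ᵁ U).topIso.hom = U.topIso.hom ≫ f.app U := by
    simp [morphismRestrict_appTop, Scheme.Opens.topIso, Scheme.Hom.app_eq_appLE, Scheme.Hom.appLE_map, Scheme.Hom.map_appLE]
    erw [Scheme.Hom.appLE_map, Scheme.Hom.map_appLE]
  rw [← Category.assoc, ← h4, Category.assoc, Iso.hom_inv_id, Category.comp_id]

omit hp in
theorem of_affine_opens {P : MorphismProperty Scheme.{u}} [IsZariskiLocalAtTarget P] {X Y : Scheme.{u}} (f : X ⟶ Y)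
    (h : ∀ U : Y.affineOpens, P (f ∣_ U)) : P f :=
  IsZariskiLocalAtTarget.of_iSup_eq_top (fun U : Y.affineOpens => (U : Y.Opens)) (iSup_affineOpens_eq_top Y) h

omit hp in
theorem isUnivHomeo_of_affine {X Y : Scheme.{u}} (f : X ⟶ Y)
    (h : ∀ U : Y.affineOpens, FlatMor.IsUnivHomeo (f ∣_ U)) : FlatMor.IsUnivHomeo f := by
  have h' := fun U => (FlatBasics.isUnivHomeo_iff _).mp (h U)
  haveI : UniversallyClosed f := of_affine_opens (P := @UniversallyClosed) f fun U => (h' U).1
  haveI : UniversallyInjective f := of_affine_opens (P := @UniversallyInjective) f fun U => (h' U).2.1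
  haveI : Surjective f := of_affine_opens (P := @Surjective) f fun U => (h' U).2.2
  exact FlatBasics.isUnivHomeo_of

section Perfection

variable {XP X : Scheme.{u}} {π : XP ⟶ X} [FrobSch.IsCharP XP p] [FrobSch.IsCharP X p]

theorem isUnivHomeo_perfection (h : FrobSch.IsPerfection π p) : FlatMor.IsUnivHomeo π := by
  refine isUnivHomeo_of_affine π fun U => ?_
  obtain ⟨hV, hpc⟩ := affine_local h U.2
  rw [morphismRestrict_eq_spec π U.2 hV]
  haveI : FlatMor.IsUnivHomeo.{u}.RespectsIso := inferInstanceAs ((MorphismProperty.universally _).RespectsIso)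
  rw [MorphismProperty.cancel_left_of_respectsIso (P := FlatMor.IsUnivHomeo.{u}),
    MorphismProperty.cancel_right_of_respectsIso (P := FlatMor.IsUnivHomeo.{u})]
  exact isUnivHomeo_spec hpc

theorem inst_of_perfection (h : FrobSch.IsPerfection π p) :
    IsAffineHom π ∧ UniversallyClosed π ∧ UniversallyInjective π ∧ Surjective π :=
  ⟨isAffineHom_perfection h, (FlatBasics.isUnivHomeo_iff π).mp (isUnivHomeo_perfection h)⟩

theorem basicOpen_eq_of_pow (h : FrobSch.IsPerfection π p) {U : X.Opens} (y : Γ(X, U)) (t : Γ(XP, π ⁻¹ᵁ U)) (n : ℕ)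
    (hy : π.app U y = t ^ p ^ n) : π ⁻¹ᵁ X.basicOpen y = XP.basicOpen t := by
  rw [Scheme.preimage_basicOpen, hy, Scheme.basicOpen_pow _ _ (pow_pos hp.out.pos n)]

theorem nil_of_app_eq_zero (h : FrobSch.IsPerfection π p) {U : X.Opens} (hU : IsCompact (U : Set X)) (s : Γ(X, U))
    (hs : π.app U s = 0) : IsNilpotent s := by
  rw [Scheme.isNilpotent_iff_basicOpen_eq_bot_of_isCompact hU]
  have h1 : π ⁻¹ᵁ X.basicOpen s = ⊥ := by rw [Scheme.preimage_basicOpen, hs, Scheme.basicOpen_zero]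
  obtain ⟨-, -, -, hsurj⟩ := inst_of_perfection h
  rw [eq_bot_iff]
  intro x hx
  obtain ⟨y, rfl⟩ := π.surjective x
  exact (h1 ▸ hx : y ∈ (⊥ : XP.Opens))

omit [FrobSch.IsCharP XP p] in
theorem sub_pow_char_open (U : X.Opens) (a b : Γ(X, U)) (n : ℕ) : (a - b) ^ p ^ n = a ^ p ^ n - b ^ p ^ n := by
  induction n with
  | zero => simp
  | succ n ih =>
    rw [pow_succ, pow_mul, pow_mul, pow_mul, ih]
    exact map_sub (FrobSch.powHom p Γ(X, U) (FrobSch.natCast_eq_zero_app X p U)) _ _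

omit hp [FrobSch.IsCharP XP p] [FrobSch.IsCharP X p] in
theorem app_res {U V : X.Opens} (i : U ≤ V) (y : Γ(X, V)) :
    π.app U (X.presheaf.map (homOfLE i).op y) = XP.presheaf.map (homOfLE (π.preimage_mono i)).op (π.app V y) :=
  congrArg (fun f => f.hom y) (π.naturality (homOfLE i).op)

theorem glue_two {S U : X.Opens} (a : Γ(X, S)) (b : Γ(X, U))
    (hab : X.presheaf.map (homOfLE (inf_le_left : S ⊓ U ≤ S)).op a = X.presheaf.map (homOfLE (inf_le_right : S ⊓ U ≤ U)).op b) :
    ∃ c : Γ(X, S ⊔ U), X.presheaf.map (homOfLE (le_sup_left : S ≤ S ⊔ U)).op c = a ∧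
      X.presheaf.map (homOfLE (le_sup_right : U ≤ S ⊔ U)).op c = b := by
  obtain ⟨c, hc, -⟩ := X.sheaf.existsUnique_gluing' (fun i : Bool => bif i then S else U) (S ⊔ U)
    (fun i => homOfLE (by cases i; exacts [le_sup_right, le_sup_left]))
    (sup_le (le_iSup (fun i : Bool => bif i then S else U) true) (le_iSup (fun i : Bool => bif i then S else U) false))
    (fun i => Bool.rec b a i) (by
      intro i j
      cases i <;> cases j
      · rfl
      · have h1 := congrArg (X.presheaf.map (homOfLE (by exact le_of_eq (inf_comm U S) : U ⊓ S ≤ S ⊓ U)).op).hom hab.symm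
        simp only [← RingHom.comp_apply, ← CommRingCat.hom_comp, ← Functor.map_comp] at h1
        exact h1
      · exact hab
      · rfl)
  exact ⟨c, hc true, hc false⟩

theorem pow_mem_qs (h : FrobSch.IsPerfection π p) [QuasiSeparatedSpace X] (S : X.Opens) (hS : IsCompact (S : Set X)) :
    ∀ t : Γ(XP, π ⁻¹ᵁ S), ∃ n y, π.app S y = t ^ p ^ n := by
  refine compact_open_induction_on (P := fun S => ∀ t : Γ(XP, π ⁻¹ᵁ S), ∃ n y, π.app S y = t ^ p ^ n) S hS ?_ ?_
  · intro t
    haveI : Subsingleton Γ(XP, π ⁻¹ᵁ (⊥ : X.Opens)) :=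
      CommRingCat.subsingleton_of_isTerminal (by
        rw [show π ⁻¹ᵁ (⊥ : X.Opens) = ⊥ from rfl]; exact XP.sheaf.isTerminalOfEqEmpty rfl)
    exact ⟨0, 0, Subsingleton.elim _ _⟩
  · intro S hS U ih t
    obtain ⟨n, a, ha⟩ := ih (XP.presheaf.map (homOfLE (π.preimage_mono le_sup_left)).op t)
    obtain ⟨m, b, hb⟩ := (affine_local h U.2).2.pow_mem (XP.presheaf.map (homOfLE (π.preimage_mono le_sup_right)).op t)
    have hb' : π.app U.1 b = _ := hb
    let L : S ⊓ U.1 ≤ S := inf_le_left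
    let R : S ⊓ U.1 ≤ U.1 := inf_le_right
    have hd : π.app (S ⊓ U.1) (X.presheaf.map (homOfLE L).op (a ^ p ^ m) - X.presheaf.map (homOfLE R).op (b ^ p ^ n)) = 0 := by
      rw [map_sub, app_res, app_res, map_pow, map_pow]
      erw [ha, map_pow (π.app U.1).hom, hb']
      simp only [sub_eq_zero, map_pow, ← pow_mul, ← pow_add, add_comm m n]
      simp only [← RingHom.comp_apply, ← CommRingCat.hom_comp, ← Functor.map_comp]
      rfl
    obtain ⟨k, hk⟩ := nil_of_app_eq_zero h (QuasiSeparatedSpace.inter_isCompact (S : Set X) U.1 S.2 hS U.1.2 U.2.isCompact) _ hd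
    have hk' := pow_eq_zero_of_le (Nat.lt_pow_self hp.out.one_lt).le hk (n := p ^ k)
    rw [sub_pow_char_open, sub_eq_zero, ← map_pow, ← map_pow] at hk'
    obtain ⟨c, hcS, hcU⟩ := glue_two _ _ hk'
    refine ⟨n + m + k, c, XP.sheaf.eq_of_locally_eq₂ (homOfLE (π.preimage_mono le_sup_left)) (homOfLE (π.preimage_mono le_sup_right))
      (le_of_eq rfl) _ _ ?_ ?_⟩
    · exact (app_res _ c).symm.trans (by
        rw [hcS, map_pow, map_pow, ha, ← pow_mul, ← pow_mul, ← pow_add, ← pow_add, ← add_assoc]; exact (map_pow _ _ _).symm)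
    · exact (app_res _ c).symm.trans (by
        rw [hcU, map_pow, map_pow, hb', ← pow_mul, ← pow_mul, ← pow_add, ← pow_add, ← add_assoc, add_comm m n]; exact (map_pow _ _ _).symm)

theorem isAffine_of_perfection (h : FrobSch.IsPerfection π p) [IsAffine XP] [QuasiSeparatedSpace X] : IsAffine X := by
  obtain ⟨-, -, -, hsurj⟩ := inst_of_perfection h
  have : CompactSpace X := ⟨by
    rw [← π.surjective.range_eq, ← Set.image_univ]
    exact isCompact_univ.image π.continuous⟩
  refine isAffine_of_isAffineOpen_basicOpen {y : Γ(X, ⊤) | IsAffineOpen (X.basicOpen y)} ?_ (fun _ hy => hy)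
  by_contra hne
  obtain ⟨m, hm, hle⟩ := Ideal.exists_le_maximal _ hne
  have hnil : ∀ x ∈ RingHom.ker π.appTop.hom, IsNilpotent x := fun x hx => nil_of_app_eq_zero h isCompact_univ x hx
  have hpow : ∀ t : Γ(XP, ⊤), ∃ k > 0, t ^ k ∈ π.appTop.hom.range := fun t => by
    obtain ⟨n, y, hy⟩ := pow_mem_qs h ⊤ isCompact_univ t
    exact ⟨p ^ n, pow_pos hp.out.pos n, y, hy⟩
  obtain ⟨Q, hQ⟩ := (PrimeSpectrum.isHomeomorph_comap π.appTop.hom hpow (fun x hx => mem_nilradical.mpr (hnil x hx))).surjective ⟨m, hm.isPrime⟩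
  let T : Set Γ(XP, ⊤) := {t | ∃ (n : ℕ) (y : Γ(X, ⊤)), IsAffineOpen (X.basicOpen y) ∧ π.appTop y = t ^ p ^ n}
  have hT : Ideal.span T = ⊤ := by
    rw [← (isAffineOpen_top XP).self_le_iSup_basicOpen_iff]
    intro x _
    obtain ⟨U, hU, hxU, -⟩ := exists_isAffineOpen_mem_and_subset (X := X) (x := π x) (U := ⊤) trivial
    obtain ⟨t, ht, hxt⟩ := (isAffineOpen_top XP).exists_basicOpen_le (V := π ⁻¹ᵁ U) ⟨x, hxU⟩ trivial
    obtain ⟨n, y, hy⟩ := pow_mem_qs h ⊤ isCompact_univ t
    have hb := basicOpen_eq_of_pow h y t n hy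
    have hle : X.basicOpen y ≤ U := fun z hz => by
      obtain ⟨w, rfl⟩ := π.surjective z
      exact ht (hb ▸ (hz : w ∈ π ⁻¹ᵁ X.basicOpen y))
    have haff : IsAffineOpen (X.basicOpen y) := by
      have h1 := hU.basicOpen (X.presheaf.map (homOfLE (le_top : U ≤ ⊤)).op y)
      rwa [Scheme.basicOpen_res, inf_eq_right.mpr hle] at h1
    exact Opens.mem_iSup.mpr ⟨⟨t, n, y, haff, hy⟩, hxt⟩
  have hTQ : Ideal.span T ≤ Q.asIdeal := Ideal.span_le.mpr fun t ⟨n, y, hy, ht⟩ => by
    refine Q.isPrime.mem_of_pow_mem (p ^ n) ?_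
    rw [← ht]
    have := hle (Ideal.subset_span hy)
    rw [show m = Q.asIdeal.comap π.appTop.hom from (congrArg PrimeSpectrum.asIdeal hQ).symm] at this
    exact this
  exact Q.isPrime.ne_top (top_le_iff.mp (hT ▸ hTQ))

end Perfection

/-! ### Descent along surjections -/

omit hp in
theorem quasiCompact_of_comp_surjective {X Y Z : Scheme.{u}} (g : X ⟶ Y) (f : Y ⟶ Z) [Surjective g]
    [QuasiCompact (g ≫ f)] : QuasiCompact f := by
  refine ⟨fun U hU hc => ?_⟩
  rw [← Set.image_preimage_eq (f ⁻¹' U) g.surjective]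
  have h := QuasiCompact.isCompact_preimage (f := g ≫ f) U hU hc
  rw [Scheme.Hom.comp_base, TopCat.coe_comp, Set.preimage_comp] at h
  exact h.image g.continuous

omit hp in
theorem diagonal_eq {X Y Z : Scheme.{u}} (g : X ⟶ Y) (f : Y ⟶ Z) :
    g ≫ pullback.diagonal f = pullback.diagonal (g ≫ f) ≫ pullback.map (g ≫ f) (g ≫ f) f f g g (𝟙 Z)
      (by simp) (by simp) := by
  apply pullback.hom_ext <;> simp [pullback.map, pullback.lift_fst, pullback.lift_snd, pullback.lift_fst_assoc, pullback.lift_snd_assoc]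

omit hp in
theorem map_mem {P : MorphismProperty Scheme.{u}} [P.IsStableUnderBaseChange] [P.IsMultiplicative]
    {X Y Z : Scheme.{u}} (g : X ⟶ Y) (f : Y ⟶ Z) (hg : P g) :
    P (pullback.map (g ≫ f) (g ≫ f) f f g g (𝟙 Z) (by simp) (by simp)) := by
  have hP : P.RespectsIso := inferInstance
  let m₁ : pullback (g ≫ f) (g ≫ f) ⟶ pullback f (g ≫ f) :=
    pullback.map _ _ _ _ g (𝟙 _) (𝟙 Z) (by simp) (by simp)
  let m₂ : pullback f (g ≫ f) ⟶ pullback f f :=
    pullback.map _ _ _ _ (𝟙 _) g (𝟙 Z) (by simp) (by simp)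
  have s₁ : IsPullback (pullback.fst (g ≫ f) (g ≫ f)) m₁ g (pullback.fst f (g ≫ f)) := by
    refine (IsPullback.of_bot (h₃₁ := g ≫ f) (v₂₁ := pullback.snd f (g ≫ f)) (v₂₂ := f) ?_ ?_
      (IsPullback.of_hasPullback f (g ≫ f)))
    · simpa [m₁, pullback.map, pullback.lift_fst, pullback.lift_snd, pullback.lift_fst_assoc, pullback.lift_snd_assoc] using IsPullback.of_hasPullback (g ≫ f) (g ≫ f)
    · simp [m₁, pullback.map, pullback.lift_fst, pullback.lift_snd, pullback.lift_fst_assoc, pullback.lift_snd_assoc]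
  have s₂ : IsPullback (pullback.snd f (g ≫ f)) m₂ g (pullback.snd f f) := by
    refine (IsPullback.of_bot (h₃₁ := f) (v₂₁ := pullback.fst f f) ?_ ?_
      ((IsPullback.of_hasPullback f f).flip))
    · simpa [m₂, pullback.map, pullback.lift_fst, pullback.lift_snd, pullback.lift_fst_assoc, pullback.lift_snd_assoc] using (IsPullback.of_hasPullback f (g ≫ f)).flip
    · simp [m₂, pullback.map, pullback.lift_fst, pullback.lift_snd, pullback.lift_fst_assoc, pullback.lift_snd_assoc]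
  have e : pullback.map (g ≫ f) (g ≫ f) f f g g (𝟙 Z) (by simp) (by simp) = m₁ ≫ m₂ := by
    apply pullback.hom_ext <;> simp [m₁, m₂, pullback.map, pullback.lift_fst, pullback.lift_snd, pullback.lift_fst_assoc, pullback.lift_snd_assoc]
  rw [e]
  exact P.comp_mem _ _ (MorphismProperty.of_isPullback s₁ hg) (MorphismProperty.of_isPullback s₂ hg)

omit hp in
theorem quasiSeparated_of_comp_surjective {X Y Z : Scheme.{u}} (g : X ⟶ Y) (f : Y ⟶ Z) [Surjective g] [QuasiCompact g]
    [QuasiSeparated (g ≫ f)] : QuasiSeparated f := by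
  haveI := QuasiSeparated.quasiCompact_diagonal (f := g ≫ f)
  haveI : QuasiCompact (pullback.map (g ≫ f) (g ≫ f) f f g g (𝟙 Z) (by simp) (by simp)) :=
    map_mem (P := @QuasiCompact) g f ‹_›
  haveI : QuasiCompact (g ≫ pullback.diagonal f) := by rw [diagonal_eq]; infer_instance
  exact ⟨quasiCompact_of_comp_surjective g _⟩

omit hp in
theorem isSeparated_of_comp_surjective {X Y Z : Scheme.{u}} (g : X ⟶ Y) (f : Y ⟶ Z) [Surjective g] [UniversallyClosed g]
    [IsSeparated (g ≫ f)] : IsSeparated f := by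
  haveI : UniversallyClosed (pullback.map (g ≫ f) (g ≫ f) f f g g (𝟙 Z) (by simp) (by simp)) :=
    map_mem (P := @UniversallyClosed) g f ‹_›
  haveI : UniversallyClosed (g ≫ pullback.diagonal f) := by rw [diagonal_eq]; infer_instance
  haveI := UniversallyClosed.of_comp_surjective g (pullback.diagonal f)
  exact ⟨IsClosedImmersion.of_isPreimmersion _ (pullback.diagonal f).isClosedMap.isClosed_range⟩

end Groth.Agent.PerfLib
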