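import Mathlib
import Groth.Prelude.Def_MeroSh
import Groth.Agent.GenLocus.PullTensor
import Groth.Agent.GenLocus.AmplePull
import Groth.Agent.ProjUPLib.TwistN

/-! Invertible modules from cocycles of units; comparison of modules through frames. -/

set_option autoImplicit false
set_option backward.isDefEq.respectTransparency false
set_option backward.isDefEq.respectTransparency.types false

noncomputable section

universe u

open CategoryTheory AlgebraicGeometry Opposite TopologicalSpace
open Groth.Agent.QCohBase Groth.Agent.GenLocus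

namespace Groth.Agent.PerfLib

variable {X : Scheme.{u}} {ι : Type u}

/-- A cocycle on an open cover. -/
structure Cocycle (X : Scheme.{u}) (ι : Type u) where
  /-- the opens -/
  A : ι → X.Opens
  cover : ∀ x : X, ∃ i, x ∈ A i
  /-- the coefficients: the `i`-th generator is `c i j` times the `j`-th -/
  c : ∀ i j, Γ(X, A i ⊓ A j)
  self : ∀ i, c i i = 1
  cocycle : ∀ i j k (x : X) (hi : x ∈ A i) (hj : x ∈ A j) (hk : x ∈ A k),
    X.presheaf.germ (A i ⊓ A j) x ⟨hi, hj⟩ (c i j) * X.presheaf.germ (A j ⊓ A k) x ⟨hj, hk⟩ (c j k) =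
      X.presheaf.germ (A i ⊓ A k) x ⟨hi, hk⟩ (c i k)

namespace Cocycle

variable (d : Cocycle X ι)

/-- The values at a point. -/
abbrev T (x : X) : Type u := {i : ι // x ∈ d.A i} → X.presheaf.stalk x

/-- The value of `f` times the `k`-th generator. -/
def val (k : ι) {V : X.Opens} (h : V ≤ d.A k) (f : Γ(X, V)) (x : V) : d.T x.1 :=
  fun i => X.presheaf.germ V x.1 x.2 f * X.presheaf.germ (d.A k ⊓ d.A i.1) x.1 ⟨h x.2, i.2⟩ (d.c k i.1)

theorem germ_mres {V W : X.Opens} (h : W ≤ V) (x : X) (hx : x ∈ W) (f : Γ(X, V)) :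
    X.presheaf.germ W x hx (ores h f) = X.presheaf.germ V x (h hx) f :=
  TopCat.Presheaf.germ_res_apply X.presheaf (homOfLE h) x hx f

/-- Sections in a chart. -/
def pre : TopCat.PrelocalPredicate d.T where
  pred {V} φ := ∃ (k : ι) (h : V ≤ d.A k) (f : Γ(X, V)), ∀ x : V, φ x = d.val k h f x
  res {V' V} j φ := by
    rintro ⟨k, h, f, hf⟩
    refine ⟨k, j.le.trans h, ores j.le f, fun x => (hf (j x)).trans (funext fun i => ?_)⟩
    simp only [val]
    rw [germ_mres]
    rfl

theorem change_chart (k l : ι) {V : X.Opens} (hk : V ≤ d.A k) (hl : V ≤ d.A l) (f : Γ(X, V)) (x : V) :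
    d.val l hl f x = d.val k hk (f * ores (le_inf hl hk) (d.c l k)) x := funext fun i => by
  simp only [val, map_mul]
  rw [germ_mres, mul_assoc, d.cocycle l k i.1 x.1 (hl x.2) (hk x.2) i.2]

instance : Mero.IsModPred d.pre.sheafify where
  zero V x := by
    obtain ⟨k, hk⟩ := d.cover x.1
    refine ⟨V ⊓ d.A k, ⟨x.2, hk⟩, homOfLE inf_le_left, k, inf_le_right, 0, fun y => funext fun i => ?_⟩
    simp only [val, map_zero, zero_mul]
    rfl
  add V φ ψ hφ hψ x := by
    obtain ⟨V₁, hx₁, i₁, k, hk, f, hf⟩ := hφ x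
    obtain ⟨V₂, hx₂, i₂, l, hl, g, hg⟩ := hψ x
    let W := V₁ ⊓ V₂
    refine ⟨W, ⟨hx₁, hx₂⟩, homOfLE (inf_le_left.trans i₁.le), k, inf_le_left.trans hk,
      ores inf_le_left f + ores inf_le_right g * ores (le_inf (inf_le_right.trans hl) (inf_le_left.trans hk)) (d.c l k),
      fun y => ?_⟩
    have e₁ := hf ⟨y.1, y.2.1⟩
    have e₂ := hg ⟨y.1, y.2.2⟩
    funext i
    have := congrFun (d.change_chart k l (V := W) (inf_le_left.trans hk) (inf_le_right.trans hl) (ores inf_le_right g) y) i
    simp only [val] at this ⊢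
    rw [map_add, add_mul, ← this, germ_mres, germ_mres]
    exact congrArg₂ (· + ·) (congrFun e₁ i) (congrFun e₂ i)
  smul V r φ hφ x := by
    obtain ⟨V₁, hx₁, i₁, k, hk, f, hf⟩ := hφ x
    refine ⟨V₁, hx₁, i₁, k, hk, ores i₁.le r * f, fun y => funext fun i => ?_⟩
    simp only [val, map_mul, mul_assoc]
    rw [germ_mres]
    exact congrArg (_ * ·) (congrFun (hf y) i)

/-- The module of the cocycle. -/
def mod : X.Modules := Mero.modOf d.pre.sheafify

/-- The `k`-th generator. -/
def gen (k : ι) : Γ(d.mod, d.A k) :=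
  ⟨fun x => d.val k le_rfl 1 x, TopCat.PrelocalPredicate.sheafifyOf (P := d.pre) ⟨k, le_rfl, 1, fun _ => rfl⟩⟩

theorem smul_gen_apply (k : ι) {V : X.Opens} (h : V ≤ d.A k) (f : Γ(X, V)) (x : V) :
    (f • mres d.mod h (d.gen k)).1 x = d.val k h f x := by
  refine Eq.trans (b := X.presheaf.germ V x.1 x.2 f • d.val k le_rfl 1 ⟨x.1, h x.2⟩) rfl (funext fun i => ?_)
  simp only [val, Pi.smul_apply, smul_eq_mul, map_one, one_mul]

theorem val_self (k : ι) {V : X.Opens} (h : V ≤ d.A k) (f : Γ(X, V)) (x : V) :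
    d.val k h f x ⟨k, h x.2⟩ = X.presheaf.germ V x.1 x.2 f := by
  simp only [val, d.self, map_one, mul_one]

theorem isFrame_gen (k : ι) : IsFrame d.mod (d.gen k) := fun V h => by
  refine ⟨fun f g e => TopCat.Presheaf.section_ext X.sheaf _ _ _ fun x hx => ?_, fun σ => ?_⟩
  · have := congrFun (congrArg (fun s : Γ(d.mod, V) => s.1 ⟨x, hx⟩) e) ⟨k, h hx⟩
    simp only [smul_gen_apply, val_self] at this
    exact this
  have hloc : ∀ x : V, ∃ (V' : X.Opens) (_ : x.1 ∈ V') (hV' : V' ≤ V) (f : Γ(X, V')),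
      ∀ y : V', σ.1 ⟨y.1, hV' y.2⟩ = d.val k (hV'.trans h) f y := by
    intro x
    obtain ⟨V', hx', j, l, hl, f, hf⟩ := σ.2 x
    exact ⟨V', hx', j.le, _, fun y => (hf y).trans (d.change_chart k l (j.le.trans h) hl f y)⟩
  choose V' hxV' hV' f hf using hloc
  obtain ⟨g, hg, -⟩ := X.sheaf.existsUnique_gluing' V' V (fun x => homOfLE (hV' x))
    (fun x hx => Opens.mem_iSup.2 ⟨⟨x, hx⟩, hxV' ⟨x, hx⟩⟩) f fun x y => by
      refine TopCat.Presheaf.section_ext X.sheaf _ _ _ fun z hz => ?_
      have e := congrFun ((hf x ⟨z, hz.1⟩).symm.trans (hf y ⟨z, hz.2⟩)) ⟨k, h (hV' x hz.1)⟩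
      simp only [val_self] at e
      erw [TopCat.Presheaf.germ_res_apply, TopCat.Presheaf.germ_res_apply]
      exact e
  refine ⟨g, Subtype.ext (funext fun x => funext fun i => ?_)⟩
  rw [smul_gen_apply]
  refine Eq.trans ?_ (congrFun (hf x ⟨x.1, hxV' x⟩) i).symm
  have e : X.presheaf.map (homOfLE (hV' x)).op g = f x := hg x
  simp only [val]
  rw [← e, TopCat.Presheaf.germ_res_apply]

theorem gen_eq (i j : ι) :
    d.c i j • mres d.mod inf_le_right (d.gen j) = mres d.mod (inf_le_left : d.A i ⊓ d.A j ≤ d.A i) (d.gen i) :=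
  Subtype.ext (funext fun x => funext fun l => by
    have h1 := congrFun (d.smul_gen_apply i (V := d.A i ⊓ d.A j) inf_le_left 1 x) l
    rw [one_smul] at h1
    rw [smul_gen_apply]
    refine Eq.trans ?_ h1.symm
    simp only [val, map_one, one_mul]
    exact d.cocycle i j l.1 x.1 x.2.1 x.2.2 l.2)

theorem isInvertible : PicF.IsInvertible d.mod :=
  ProjUPLib.isInvertible_of_local_frames fun x =>
    (d.cover x).elim fun k hk => ⟨d.A k, hk, d.gen k, d.isFrame_gen k⟩

end Cocycle

/-! ### Comparison through frames -/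

theorem isFrame_app {M N : X.Modules} (φ : M ⟶ N) [IsIso φ] {U : X.Opens} {e : Γ(M, U)} (he : IsFrame M e) :
    IsFrame N (φ.app U e) := fun V h => by
  have hb : Function.Bijective (φ.app V) := by
    have := (Scheme.Modules.Hom.isIso_iff_isIso_app (φ := φ)).mp ‹_› V
    exact ConcreteCategory.bijective_of_isIso _
  have : (fun r : Γ(X, V) => r • mres N h (φ.app U e)) = φ.app V ∘ fun r : Γ(X, V) => r • mres M h e := funext fun r => by
    rw [Function.comp_apply, app_smul', app_mres]
  rw [this]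
  exact hb.comp (he V h)

theorem exists_iso_of_frames {M N : X.Modules} (A : ι → X.Opens) (cover : ∀ x : X, ∃ i, x ∈ A i)
    (e : ∀ i, Γ(M, A i)) (he : ∀ i, IsFrame M (e i)) (e' : ∀ i, Γ(N, A i)) (he' : ∀ i, IsFrame N (e' i))
    (h : ∀ i j, ∃ r : Γ(X, A i ⊓ A j), r • mres M inf_le_right (e j) = mres M inf_le_left (e i) ∧
      r • mres N inf_le_right (e' j) = mres N inf_le_left (e' i)) : Nonempty (M ≅ N) := by
  have hcov : ∀ V : X.Opens, V ≤ ⨆ i, V ⊓ A i := fun V x hx => by
    obtain ⟨i, hi⟩ := cover x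
    exact Opens.mem_iSup.mpr ⟨i, hx, hi⟩
  let P : ∀ V : X.Opens, Γ(M, V) → Γ(N, V) → Prop := fun V m n => ∀ (i : ι) (W : X.Opens) (hW : W ≤ V) (hA : W ≤ A i)
    (r : Γ(X, W)), r • mres M hA (e i) = mres M hW m → mres N hW n = r • mres N hA (e' i)
  have uniq : ∀ V m n n', P V m n → P V m n' → n = n' := fun V m n n' hn hn' => by
    refine eq_of_iSup_le N (fun i => V ⊓ A i) (fun i => inf_le_left) (hcov V) _ _ fun i => ?_
    obtain ⟨r, hr⟩ := (he i (V ⊓ A i) inf_le_right).2 (mres M inf_le_left m)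
    rw [hn i _ inf_le_left inf_le_right r hr, hn' i _ inf_le_left inf_le_right r hr]
  have ex : ∀ V m, ∃ n, P V m n := fun V m => by
    choose r hr using fun i => (he i (V ⊓ A i) inf_le_right).2 (mres M inf_le_left m)
    simp only [] at hr
    have compat : ∀ i j (W : X.Opens) (hW : W ≤ V) (hi : W ≤ A i) (hj : W ≤ A j) (a b : Γ(X, W)),
        a • mres M hi (e i) = mres M hW m → b • mres M hj (e j) = mres M hW m →
        a • mres N hi (e' i) = b • mres N hj (e' j) := fun i j W hW hi hj a b ha hb => by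
      obtain ⟨q, hq, hq'⟩ := h i j
      have e1 := congrArg (mres M (le_inf hi hj)) hq
      have e2 := congrArg (mres N (le_inf hi hj)) hq'
      rw [mres_smul, mres_mres, mres_mres] at e1 e2
      rw [← e2, smul_smul]
      congr 1
      refine (he j W hj).1 ?_
      show _ • mres M hj (e j) = b • mres M hj (e j)
      rw [mul_smul, e1, ha, hb]
    obtain ⟨n, hn, -⟩ := TopCat.Sheaf.existsUnique_gluing' ⟨N.presheaf, N.isSheaf⟩ (fun i => V ⊓ A i) V
      (fun i => homOfLE inf_le_left) (hcov V) (fun i => r i • mres N inf_le_right (e' i)) fun i j => by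
        show mres N _ (r i • _) = mres N _ (r j • _)
        rw [mres_smul, mres_smul, mres_mres, mres_mres]
        refine compat i j _ (inf_le_left.trans inf_le_left) _ _ _ _ ?_ ?_
        · have := congrArg (mres M (inf_le_left : (V ⊓ A i) ⊓ (V ⊓ A j) ≤ V ⊓ A i)) (hr i)
          simp only [mres_smul, mres_mres] at this
          exact this
        · have := congrArg (mres M (inf_le_right : (V ⊓ A i) ⊓ (V ⊓ A j) ≤ V ⊓ A j)) (hr j)
          simp only [mres_smul, mres_mres] at this
          exact this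
    refine ⟨n, fun i W hW hA a ha => ?_⟩
    have hni : mres N inf_le_left n = r i • mres N inf_le_right (e' i) := hn i
    have e3 := congrArg (mres N (le_inf hW hA)) hni
    rw [mres_mres, mres_smul, mres_mres] at e3
    rw [e3]
    congr 1
    refine (he i W hA).1 ?_
    show _ • mres M hA (e i) = a • mres M hA (e i)
    have := congrArg (mres M (le_inf hW hA)) (hr i)
    rw [mres_smul, mres_mres, mres_mres] at this
    rw [this, ha]
  choose f hf using ex
  let φ : M ⟶ N := modHomMk
    (fun V => AddMonoidHom.mk' (f V) fun m m' => uniq V _ _ _ (hf V (m + m')) fun i W hW hA r hr => by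
      obtain ⟨a, ha⟩ := (he i W hA).2 (mres M hW m)
      obtain ⟨b, hb⟩ := (he i W hA).2 (mres M hW m')
      have : r = a + b := (he i W hA).1 (by
        show r • mres M hA (e i) = (a + b) • mres M hA (e i)
        rw [hr, map_add, add_smul]; exact congrArg₂ (· + ·) ha.symm hb.symm)
      rw [map_add, hf V m i W hW hA a ha, hf V m' i W hW hA b hb, this, add_smul])
    (fun V W h m => uniq W _ _ _ (fun i W' hW' hA r hr => by
      rw [mres_mres]
      exact hf V m i W' _ hA r (by rw [hr, mres_mres])) (hf W _))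
    (fun V s m => uniq V _ _ _ (hf V (s • m)) fun i W hW hA r hr => by
      obtain ⟨a, ha⟩ := (he i W hA).2 (mres M hW m)
      have : r = ores hW s * a := (he i W hA).1 (by
        show r • mres M hA (e i) = (ores hW s * a) • mres M hA (e i)
        rw [hr, mres_smul, mul_smul]; exact congrArg _ ha.symm)
      show mres N hW (s • f V m) = _
      rw [mres_smul, hf V m i W hW hA a ha, this, mul_smul])
  have : IsIso φ := isIso_of_frames φ fun x => by
    obtain ⟨i, hi⟩ := cover x
    refine ⟨A i, hi, e i, he i, ?_⟩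
    have h1 := hf (A i) (e i) i (A i) le_rfl le_rfl 1 (by rw [one_smul])
    rw [mres_refl, mres_refl, one_smul] at h1
    show IsFrame N (f (A i) (e i))
    rw [h1]
    exact he' i
  exact ⟨asIso φ⟩

end Groth.Agent.PerfLib
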