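import Mathlib
import Groth.Agent.PerfLib.Topo
import Groth.Agent.GenLocus.AmplePull
import Groth.Agent.GenLocus.Rel

/-! Ampleness descends along perfections. -/

set_option autoImplicit false
set_option backward.isDefEq.respectTransparency false
set_option backward.isDefEq.respectTransparency.types false

universe u

open CategoryTheory AlgebraicGeometry Opposite TopologicalSpace
open Groth.Agent.QCohBase Groth.Agent.GenLocus

namespace Groth.Agent.PerfLib

variable {p : ℕ} [hp : Fact p.Prime] {XP X : Scheme.{u}} {π : XP ⟶ X}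
  [FrobSch.IsCharP XP p] [FrobSch.IsCharP X p]

theorem exists_genLocus_descend (h : FrobSch.IsPerfection π p) [CompactSpace X] [QuasiSeparatedSpace X]
    {L : X.Modules} (hL : PicF.IsInvertible L) {n : ℕ}
    (c : Coh.structureModule XP ⟶ CohB1.tensorPow ((Scheme.Modules.pullback π).obj L) (n + 1)) :
    ∃ (N : ℕ) (s : Coh.structureModule X ⟶ CohB1.tensorPow L (N + 1)),
      π ⁻¹ᵁ CohB1.genLocus _ s = CohB1.genLocus _ c := by
  classical
  choose A hA hxA _ e he using fun x : X ↦ exists_isFrame hL (W := ⊤) (x := x) trivial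
  obtain ⟨t, ht⟩ := CompactSpace.elim_nhds_subcover (fun x ↦ (A x : Set X))
    (fun x ↦ (A x).2.mem_nhds (hxA x))
  have hcov : (⊤ : X.Opens) ≤ ⨆ i : t, A i.1 := fun x _ ↦ by
    have : x ∈ ⋃ i ∈ t, (A i : Set X) := by rw [ht]; trivial
    obtain ⟨i, hi, hxi⟩ := Set.mem_iUnion₂.mp this
    exact Opens.mem_iSup.mpr ⟨⟨i, hi⟩, hxi⟩
  choose f hf using fun i : t ↦ (((he i.1).pullSec π).framePow (n + 1)).bijective.2 (sect c (π ⁻¹ᵁ A i.1))
  simp only [] at hf
  choose m a ha using fun i : t ↦ pow_mem_qs h (A i.1) (hA i.1).isCompact (f i)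
  let M := Finset.univ.sup m
  let b : ∀ i : t, Γ(X, A i.1) := fun i ↦ a i ^ p ^ (M - m i)
  have hb : ∀ i, π.app (A i.1) (b i) = f i ^ p ^ M := fun i ↦ by
    rw [map_pow, ha, ← pow_mul, ← pow_add, Nat.add_sub_cancel' (Finset.le_sup (f := m) (Finset.mem_univ i))]
  let I : t → t → X.Opens := fun i j ↦ A i.1 ⊓ A j.1
  have hIi : ∀ i j, I i j ≤ A i.1 := fun i j ↦ inf_le_left
  have hIj : ∀ i j, I i j ≤ A j.1 := fun i j ↦ inf_le_right
  choose g hg using fun i j : t ↦ ((he j.1).res (hIj i j)).bijective.2 (mres L (hIi i j) (e i.1))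
  simp only [] at hg
  let d : ∀ i j, Γ(X, I i j) := fun i j ↦
    ores (hIi i j) (b i) * g i j ^ ((n + 1) * p ^ M) - ores (hIj i j) (b j)
  have hd : ∀ i j, π.app (I i j) (d i j) = 0 := fun i j ↦ by
    have hfr := (((he j.1).res (hIj i j)).pullSec π).framePow (n + 1)
    have key : ores (π.preimage_mono (hIi i j)) (f i) * π.app (I i j) (g i j) ^ (n + 1) =
        ores (π.preimage_mono (hIj i j)) (f j) := by
      refine hfr.bijective.1 ?_
      show _ • GenLocus.framePow (GenLocus.pullSec π L (I i j) (mres L (hIj i j) (e j.1))) (n + 1) = _ • _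
      rw [mul_smul, ← framePow_smul, ← pullSec_smul, hg, ← pullSec_mres, ← pullSec_mres, ← framePow_res, ← framePow_res,
        ← mres_smul, ← mres_smul, hf, hf, mres_sect, mres_sect]
    simp only [d, map_sub, map_mul, map_pow, sub_eq_zero]
    rw [show π.app (I i j) (ores (hIi i j) (b i)) = ores (π.preimage_mono (hIi i j)) (π.app _ (b i)) from app_res _ _,
      show π.app (I i j) (ores (hIj i j) (b j)) = ores (π.preimage_mono (hIj i j)) (π.app _ (b j)) from app_res _ _,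
      hb, hb, map_pow, map_pow, pow_mul, ← mul_pow, key]
  have hd' : ∀ z : t × t, ∀ᶠ k in Filter.atTop, d z.1 z.2 ^ p ^ k = 0 := fun z ↦ by
    obtain ⟨k, hk⟩ := nil_of_app_eq_zero h (QuasiSeparatedSpace.inter_isCompact (A z.1.1 : Set X) (A z.2.1 : Set X)
      (A z.1.1).2 (hA z.1.1).isCompact (A z.2.1).2 (hA z.2.1).isCompact) _ (hd z.1 z.2)
    exact Filter.eventually_atTop.2 ⟨k, fun k' hk' ↦
      pow_eq_zero_of_le (hk'.trans (Nat.lt_pow_self hp.out.one_lt).le) hk⟩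
  obtain ⟨k, hk⟩ := (Filter.eventually_all.2 hd').exists
  obtain ⟨N, hN⟩ : ∃ N, (n + 1) * p ^ (M + k) = N + 1 :=
    ⟨_, (Nat.sub_add_cancel (Nat.mul_pos n.succ_pos (pow_pos hp.out.pos _))).symm⟩
  let σ : ∀ i : t, Γ(CohB1.tensorPow L (N + 1), A i.1) := fun i ↦ b i ^ p ^ k • GenLocus.framePow (e i.1) (N + 1)
  have hσ : ∀ i j : t, mres _ (hIi i j) (σ i) = mres _ (hIj i j) (σ j) := fun i j ↦ by
    simp only [σ, mres_smul, framePow_res]
    rw [← hg i j, framePow_smul, smul_smul]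
    congr 1
    have hz := hk (i, j)
    simp only [d] at hz
    rw [sub_pow_char_open, sub_eq_zero, mul_pow, ← pow_mul, mul_assoc, ← pow_add, hN] at hz
    simp only [b, map_pow] at hz ⊢
    exact hz
  obtain ⟨τ, hτ, -⟩ := TopCat.Sheaf.existsUnique_gluing'
    ⟨(CohB1.tensorPow L (N + 1)).presheaf, (CohB1.tensorPow L (N + 1)).isSheaf⟩ (fun i : t ↦ A i.1) ⊤
    (fun i ↦ homOfLE le_top) hcov σ hσ
  refine ⟨N, homOfSection _ τ, ?_⟩
  have h1 : ∀ i : t, π ⁻¹ᵁ CohB1.genLocus _ (homOfSection _ τ) ⊓ π ⁻¹ᵁ A i.1 =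
      CohB1.genLocus _ c ⊓ π ⁻¹ᵁ A i.1 := fun i ↦ by
    have hs : b i ^ p ^ k • GenLocus.framePow (e i.1) (N + 1) = sect (homOfSection _ τ) (A i.1) :=
      ((sect_homOfSection _ τ _).trans (hτ i)).symm
    have hbo : π ⁻¹ᵁ X.basicOpen (b i ^ p ^ k) = XP.basicOpen (f i) :=
      basicOpen_eq_of_pow h _ (f i) (M + k) (by rw [map_pow, hb, ← pow_mul, ← pow_add])
    rw [← Scheme.Hom.preimage_inf, genLocus_inf_eq_basicOpen _ ((he i.1).framePow (N + 1)) hs, hbo,
      genLocus_inf_eq_basicOpen _ (((he i.1).pullSec π).framePow (n + 1)) (hf i)]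
  ext y
  obtain ⟨i, hi⟩ := Opens.mem_iSup.mp (hcov (Set.mem_univ (π y) : π y ∈ (⊤ : X.Opens)))
  have := SetLike.ext_iff.mp (h1 i) y
  exact ⟨fun hy => (this.mp ⟨hy, hi⟩).1, fun hy => (this.mpr ⟨hy, hi⟩).1⟩

theorem isAmple_iff_pullback (h : FrobSch.IsPerfection π p) [CompactSpace X] [QuasiSeparatedSpace X]
    {L : X.Modules} (hL : PicF.IsInvertible L) :
    CohB1.IsAmple L ↔ CohB1.IsAmple ((Scheme.Modules.pullback π).obj L) := by
  obtain ⟨_, _, _, _⟩ := inst_of_perfection h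
  refine ⟨isAmple_pullback_of_isAffineHom π, fun hA => ⟨hL, inferInstance, fun x => ?_⟩⟩
  obtain ⟨y, rfl⟩ := π.surjective x
  obtain ⟨n, c, hy, hc⟩ := hA.2.2 y
  obtain ⟨N, s, hs⟩ := exists_genLocus_descend h hL c
  refine ⟨N, s, hs.ge hy, ?_⟩
  let U := CohB1.genLocus _ s
  haveI := FrobSch.IsCharP.of_hom U.ι p
  haveI := FrobSch.IsCharP.of_hom (π ⁻¹ᵁ U).ι p
  haveI : IsAffine (π ⁻¹ᵁ U).toScheme := (hs ▸ hc : IsAffineOpen (π ⁻¹ᵁ U))
  haveI : QuasiSeparatedSpace U.toScheme := U.2.isOpenEmbedding_subtypeVal.quasiSeparatedSpace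
  exact isAffine_of_perfection (perfection_restrict h U)

end Groth.Agent.PerfLib
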