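import Mathlib
import Groth.Agent.PerfLib.Ample
import Groth.Agent.PerfLib.Cocycle
import Groth.Prelude.Def_Pic

/-! Pullback of invertible modules along a perfection inverts p. -/

set_option autoImplicit false
set_option backward.isDefEq.respectTransparency false
set_option backward.isDefEq.respectTransparency.types false

universe u

open CategoryTheory AlgebraicGeometry Opposite TopologicalSpace Filter
open Groth.Agent.QCohBase Groth.Agent.GenLocus

namespace Groth.Agent.PerfLib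

variable {p : ℕ} [hp : Fact p.Prime] {XP X : Scheme.{u}} {π : XP ⟶ X}
  [FrobSch.IsCharP XP p] [FrobSch.IsCharP X p]

theorem exists_finite_affine_frames [CompactSpace X] {L : X.Modules} (hL : PicF.IsInvertible L) :
    ∃ (ι : Type u) (_ : Finite ι) (A : ι → X.Opens) (e : ∀ i, Γ(L, A i)),
      (∀ x : X, ∃ i, x ∈ A i) ∧ (∀ i, IsAffineOpen (A i)) ∧ ∀ i, IsFrame L (e i) := by
  choose A hA hxA _ e he using fun x : X ↦ exists_isFrame hL (W := ⊤) (x := x) trivial
  obtain ⟨t, ht⟩ := CompactSpace.elim_nhds_subcover (fun x ↦ (A x : Set X)) (fun x ↦ (A x).2.mem_nhds (hxA x))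
  refine ⟨t, inferInstance, fun i => A i.1, fun i => e i.1, fun x => ?_, fun i => hA _, fun i => he _⟩
  have : x ∈ ⋃ i ∈ t, (A i : Set X) := by rw [ht]; trivial
  obtain ⟨i, hi, hxi⟩ := Set.mem_iUnion₂.mp this
  exact ⟨⟨i, hi⟩, hxi⟩

theorem iso_of_cl_eq {Y : Scheme.{u}} {L L' : Y.Modules} (h : PicF.cl L = PicF.cl L') : Nonempty (L ≅ L') := by
  have h2 := Quot.eqvGen_exact h
  clear h
  induction h2 with
  | rel _ _ h => exact h
  | refl => exact ⟨Iso.refl _⟩
  | symm _ _ _ ih => obtain ⟨e⟩ := ih; exact ⟨e.symm⟩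
  | trans _ _ _ _ _ ih ih' => obtain ⟨e⟩ := ih; obtain ⟨e'⟩ := ih'; exact ⟨e ≪≫ e'⟩

theorem isFrame_one (Y : Scheme.{u}) (U : Y.Opens) :
    IsFrame (Coh.structureModule Y) (sect (𝟙 (Coh.structureModule Y)) U) :=
  (isIso_restrict_iff _ _).mp (by rw [CategoryTheory.Functor.map_id]; infer_instance)

theorem eventually_eq_pow (h : FrobSch.IsPerfection π p) {U : X.Opens} (hU : IsCompact (U : Set X)) (a b : Γ(X, U))
    (hab : π.app U a = π.app U b) : ∀ᶠ k in atTop, a ^ p ^ k = b ^ p ^ k := by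
  obtain ⟨k, hk⟩ := nil_of_app_eq_zero h hU (a - b) (by rw [map_sub, hab, sub_self])
  refine eventually_atTop.2 ⟨k, fun k' hk' => ?_⟩
  rw [← sub_eq_zero, ← sub_pow_char_open]
  exact pow_eq_zero_of_le (hk'.trans (Nat.lt_pow_self hp.out.one_lt).le) hk

theorem isUnit_of_app (h : FrobSch.IsPerfection π p) {U : X.Opens} (a : Γ(X, U)) (ha : IsUnit (π.app U a)) : IsUnit a := by
  obtain ⟨-, -, -, hs⟩ := inst_of_perfection h
  refine X.toRingedSpace.isUnit_of_isUnit_germ U a fun x hx => ?_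
  obtain ⟨y, rfl⟩ := π.surjective x
  have : y ∈ XP.basicOpen (π.app U a) := by rw [Scheme.basicOpen_of_isUnit _ ha]; exact hx
  rw [← Scheme.preimage_basicOpen] at this
  exact (Scheme.mem_basicOpen _ _ _ hx).mp this

theorem eventually_descend (h : FrobSch.IsPerfection π p) [QuasiSeparatedSpace X] {U : X.Opens}
    (hU : IsCompact (U : Set X)) (w : Γ(XP, π ⁻¹ᵁ U)) : ∀ᶠ n in atTop, ∃ a, π.app U a = w ^ p ^ n := by
  obtain ⟨n, a, ha⟩ := pow_mem_qs h U hU w
  refine eventually_atTop.2 ⟨n, fun n' hn => ⟨a ^ p ^ (n' - n), ?_⟩⟩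
  rw [map_pow, ha, ← pow_mul, ← pow_add, Nat.add_sub_cancel' hn]

theorem app_ores (π : XP ⟶ X) {U V : X.Opens} (i : U ≤ V) (y : Γ(X, V)) :
    π.app U (ores i y) = ores (π.preimage_mono i) (π.app V y) :=
  app_res i y

/-- Coefficient of the change between two frames. -/
theorem exists_coeff {Y : Scheme.{u}} {L : Y.Modules} {A B : Y.Opens} {a : Γ(L, A)} {b : Γ(L, B)} (hb : IsFrame L b) :
    ∃ c : Γ(Y, A ⊓ B), c • mres L inf_le_right b = mres L (inf_le_left : A ⊓ B ≤ A) a :=
  ((hb.res inf_le_right).bijective).2 _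

theorem pullSec_change {L : X.Modules} {A B : X.Opens} {a : Γ(L, A)} {b : Γ(L, B)} {c : Γ(X, A ⊓ B)}
    (hc : c • mres L inf_le_right b = mres L inf_le_left a) :
    π.app (A ⊓ B) c • mres _ (π.preimage_mono inf_le_right) (pullSec π L B b) =
      mres _ (π.preimage_mono inf_le_left) (pullSec π L A a) := by
  rw [pullSec_mres π L (inf_le_right : A ⊓ B ≤ B), pullSec_mres π L (inf_le_left : A ⊓ B ≤ A), ← pullSec_smul, hc]

theorem framePow_change {Y : Scheme.{u}} {L : Y.Modules} {A B : Y.Opens} {a : Γ(L, A)} {b : Γ(L, B)} {c : Γ(Y, A ⊓ B)}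
    (hc : c • mres L inf_le_right b = mres L inf_le_left a) (n : ℕ) :
    c ^ n • mres _ inf_le_right (GenLocus.framePow b n) = mres _ inf_le_left (GenLocus.framePow a n) := by
  rw [framePow_res, framePow_res, ← framePow_smul, hc]

theorem trivial_iff (h : FrobSch.IsPerfection π p) [CompactSpace X] [QuasiSeparatedSpace X]
    {L : X.Modules} (hL : PicF.IsInvertible L) :
    PicF.IsTrivialCl (PicF.pullCl π (PicF.cl L)) ↔ ∃ n : ℕ, PicF.IsTrivialCl (PicF.cl (CohB1.tensorPow L (p ^ n))) := by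
  obtain ⟨ι, _, A, e, cov, hA, he⟩ := exists_finite_affine_frames hL
  cases nonempty_fintype ι
  choose c hc using fun i j => exists_coeff (A := A i) (a := e i) (he j)
  have covP : ∀ y : XP, ∃ i, y ∈ π ⁻¹ᵁ A i := fun y => cov (π y)
  constructor
  · intro ht
    obtain ⟨t⟩ := iso_of_cl_eq (show PicF.cl ((Scheme.Modules.pullback π).obj L) = PicF.cl (Coh.structureModule XP) from ht)
    have hfr := fun i => isFrame_app t.hom ((he i).pullSec π)
    choose w hw using fun i => (isFrame_one XP (π ⁻¹ᵁ A i)).bijective.2 (t.hom.app _ (pullSec π L _ (e i)))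
    simp only [] at hw
    have hwu : ∀ i, IsUnit (w i) := fun i => (isFrame_one XP _).isUnit_of_smul (hw i ▸ hfr i)
    have hwc : ∀ i j, π.app (A i ⊓ A j) (c i j) * ores (π.preimage_mono inf_le_right) (w j) =
        ores (π.preimage_mono inf_le_left) (w i) := fun i j => by
      refine ((isFrame_one XP (π ⁻¹ᵁ A i)).res (π.preimage_mono inf_le_left)).bijective.1 ?_
      show _ • mres _ _ _ = _ • mres _ _ _
      rw [mres_sect, mul_smul, ← mres_sect (𝟙 (Coh.structureModule XP)) (π.preimage_mono (inf_le_right : A i ⊓ A j ≤ A j)),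
        ← mres_smul, hw, mres_sect, ← mres_sect (𝟙 (Coh.structureModule XP)) (π.preimage_mono (inf_le_left : A i ⊓ A j ≤ A i)),
        ← mres_smul, hw, app_mres, app_mres, ← app_smul', pullSec_change (hc i j)]
    obtain ⟨m, hm⟩ := (eventually_all.2 fun i => eventually_descend h (hA i).isCompact (w i)).exists
    choose a ha using hm
    have hev : ∀ z : ι × ι, ∀ᶠ k in atTop, (c z.1 z.2 ^ p ^ m * ores inf_le_right (a z.2)) ^ p ^ k =
        ores inf_le_left (a z.1) ^ p ^ k := fun z => by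
      refine eventually_eq_pow h (QuasiSeparatedSpace.inter_isCompact (A z.1 : Set X) (A z.2 : Set X) (A z.1).2
        (hA z.1).isCompact (A z.2).2 (hA z.2).isCompact) _ _ ?_
      rw [map_mul, map_pow]
      erw [app_res, app_res]
      rw [ha, ha, map_pow, map_pow]
      exact (mul_pow _ _ _).symm.trans (congrArg (· ^ p ^ m) (hwc z.1 z.2))
    obtain ⟨k, hk⟩ := (eventually_all.2 hev).exists
    refine ⟨m + k, ?_⟩
    have hau : ∀ i, IsUnit (a i ^ p ^ k) := fun i =>
      (isUnit_of_app h (a i) (ha i ▸ (hwu i).pow _)).pow _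
    obtain ⟨e'⟩ := exists_iso_of_frames A cov (fun i => GenLocus.framePow (e i) (p ^ (m + k))) (fun i => (he i).framePow _)
      (fun i => a i ^ p ^ k • sect (𝟙 (Coh.structureModule X)) (A i)) (fun i => (isFrame_one X _).smul_unit (hau i))
      (fun i j => ⟨c i j ^ p ^ (m + k), framePow_change (hc i j) _, by
        rw [mres_smul, mres_smul, mres_sect, mres_sect, smul_smul, map_pow, map_pow]
        congr 1
        have := hk (i, j)
        rw [mul_pow, ← pow_mul, ← pow_add] at this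
        exact this⟩)
    exact Quot.sound ⟨e'⟩
  · rintro ⟨n, hn⟩
    obtain ⟨t⟩ := iso_of_cl_eq hn
    have hfr := fun i => isFrame_app t.hom ((he i).framePow (p ^ n))
    choose v hv using fun i => (isFrame_one X (A i)).bijective.2 (t.hom.app _ (GenLocus.framePow (e i) (p ^ n)))
    simp only [] at hv
    have hvu : ∀ i, IsUnit (v i) := fun i => (isFrame_one X _).isUnit_of_smul (hv i ▸ hfr i)
    have hvc : ∀ i j, c i j ^ p ^ n * ores inf_le_right (v j) = ores inf_le_left (v i) := fun i j => by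
      refine ((isFrame_one X (A i)).res (inf_le_left : A i ⊓ A j ≤ A i)).bijective.1 ?_
      show _ • mres _ _ _ = _ • mres _ _ _
      rw [mres_sect, mul_smul, ← mres_sect (𝟙 (Coh.structureModule X)) (inf_le_right : A i ⊓ A j ≤ A j),
        ← mres_smul, hv, mres_sect, ← mres_sect (𝟙 (Coh.structureModule X)) (inf_le_left : A i ⊓ A j ≤ A i),
        ← mres_smul, hv, app_mres, app_mres, ← app_smul', framePow_change (hc i j)]
    choose w hw using fun i => (bij_pow (bij_sections h.1 _) n).surjective (π.app (A i) (v i))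
    simp only [] at hw
    have hwu : ∀ i, IsUnit (w i) := fun i =>
      (isUnit_pow_iff (pow_ne_zero n hp.out.ne_zero)).mp ((hw i).symm ▸ (hvu i).map (π.app (A i)).hom)
    obtain ⟨e'⟩ := exists_iso_of_frames (fun i => π ⁻¹ᵁ A i) covP (fun i => pullSec π L _ (e i)) (fun i => (he i).pullSec π)
      (fun i => w i • sect (𝟙 (Coh.structureModule XP)) (π ⁻¹ᵁ A i)) (fun i => (isFrame_one XP _).smul_unit (hwu i))
      (fun i j => ⟨π.app (A i ⊓ A j) (c i j), pullSec_change (hc i j), by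
        rw [mres_smul, mres_smul, mres_sect, mres_sect, smul_smul]
        congr 1
        refine (bij_pow (bij_sections h.1 _) n).injective ?_
        show _ ^ p ^ n = _ ^ p ^ n
        rw [mul_pow, ← map_pow, ← map_pow, hw, hw]
        erw [← map_pow]
        have e1 := congrArg (π.app (A i ⊓ A j)).hom (hvc i j)
        rw [map_mul] at e1
        refine Eq.trans ?_ (e1.trans (app_res _ _))
        exact congrArg (_ * ·) (app_ores π inf_le_right (v j)).symm⟩)
    exact Quot.sound ⟨e'⟩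

theorem exists_pow_mem (h : FrobSch.IsPerfection π p) [CompactSpace X] [QuasiSeparatedSpace X]
    {M : XP.Modules} (hM : PicF.IsInvertible M) :
    ∃ (n : ℕ) (L : X.Modules), PicF.IsInvertible L ∧
      PicF.cl (CohB1.tensorPow M (p ^ n)) = PicF.pullCl π (PicF.cl L) := by
  obtain ⟨_, _, _, _⟩ := inst_of_perfection h
  have key : ∀ x : X, ∃ (A : X.Opens) (e : Γ(M, π ⁻¹ᵁ A)), x ∈ A ∧ IsAffineOpen A ∧ IsFrame M e := by
    intro x
    obtain ⟨y, rfl⟩ := π.surjective x
    obtain ⟨U, -, hyU, -, e, he⟩ := exists_isFrame hM (W := ⊤) (x := y) trivial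
    let V : X.Opens := ⟨(π '' (U : Set XP)ᶜ)ᶜ, (π.isClosedMap _ U.2.isClosed_compl).isOpen_compl⟩
    have hyV : π y ∈ V := fun ⟨z, hz, hzy⟩ => hz (π.injective hzy ▸ hyU)
    obtain ⟨A, hA, hxA, hAV⟩ := exists_isAffineOpen_mem_and_subset (X := X) (x := π y) (U := V) hyV
    have hle : π ⁻¹ᵁ A ≤ U := fun z hz => by
      by_contra hzU
      exact hAV hz ⟨z, hzU, rfl⟩
    exact ⟨A, mres M hle e, hxA, hA, he.res hle⟩
  choose A e hxA hA he using key
  obtain ⟨t, ht⟩ := CompactSpace.elim_nhds_subcover (fun x ↦ (A x : Set X)) (fun x ↦ (A x).2.mem_nhds (hxA x))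
  have cov : ∀ x : X, ∃ i : t, x ∈ A i.1 := fun x => by
    have : x ∈ ⋃ i ∈ t, (A i : Set X) := by rw [ht]; trivial
    obtain ⟨i, hi, hxi⟩ := Set.mem_iUnion₂.mp this
    exact ⟨⟨i, hi⟩, hxi⟩
  have hI : ∀ i j : t, IsCompact ((A i.1 ⊓ A j.1 : X.Opens) : Set X) := fun i j =>
    QuasiSeparatedSpace.inter_isCompact (A i.1 : Set X) (A j.1 : Set X) (A i.1).2 (hA i.1).isCompact (A j.1).2 (hA j.1).isCompact
  have hI3 : ∀ i j k : t, IsCompact ((A i.1 ⊓ A j.1 ⊓ A k.1 : X.Opens) : Set X) := fun i j k =>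
    QuasiSeparatedSpace.inter_isCompact ((A i.1 ⊓ A j.1 : X.Opens) : Set X) (A k.1 : Set X) (A i.1 ⊓ A j.1).2 (hI i j)
      (A k.1).2 (hA k.1).isCompact
  choose u hu using fun i j : t =>
    ((he j.1).res (π.preimage_mono (inf_le_right : A i.1 ⊓ A j.1 ≤ A j.1))).bijective.2
      (mres M (π.preimage_mono (inf_le_left : A i.1 ⊓ A j.1 ≤ A i.1)) (e i.1))
  simp only [] at hu
  obtain ⟨m, hm⟩ := (eventually_all.2 fun z : t × t => eventually_descend h (hI z.1 z.2) (u z.1 z.2)).exists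
  have hm' : ∀ i j : t, ∃ a : Γ(X, A i.1 ⊓ A j.1), π.app (A i.1 ⊓ A j.1) a = u i j ^ p ^ m := fun i j => hm (i, j)
  choose a ha using hm'
  have hself : ∀ i, u i i = 1 := fun i => by
    refine ((he i.1).res (π.preimage_mono (inf_le_right : A i.1 ⊓ A i.1 ≤ A i.1))).bijective.1 ?_
    show _ • _ = _ • _
    rw [hu i i, one_smul]
  have hev1 : ∀ i : t, ∀ᶠ k in atTop, a i i ^ p ^ k = 1 := fun i =>
    (eventually_eq_pow h (hI i i) (a i i) 1 (by rw [ha, hself, one_pow, map_one])).mono fun k hk => hk.trans (one_pow _)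
  let T : t → t → t → X.Opens := fun i j l => A i.1 ⊓ A j.1 ⊓ A l.1
  have hT1 : ∀ i j l, T i j l ≤ A i.1 ⊓ A j.1 := fun i j l => inf_le_left
  have hT2 : ∀ i j l, T i j l ≤ A j.1 ⊓ A l.1 := fun i j l => inf_le_inf_right _ inf_le_right
  have hT3 : ∀ i j l, T i j l ≤ A i.1 ⊓ A l.1 := fun i j l => inf_le_inf_right _ inf_le_left
  have hev2 : ∀ z : t × t × t, ∀ᶠ k in atTop,
      (ores (hT1 z.1 z.2.1 z.2.2) (a z.1 z.2.1) * ores (hT2 z.1 z.2.1 z.2.2) (a z.2.1 z.2.2)) ^ p ^ k =
        ores (hT3 z.1 z.2.1 z.2.2) (a z.1 z.2.2) ^ p ^ k := fun ⟨i, j, l⟩ => by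
    refine eventually_eq_pow h (hI3 i j l) _ _ ?_
    rw [map_mul]
    erw [app_res, app_res, app_res]
    rw [ha, ha, ha, map_pow, map_pow, map_pow]
    refine (mul_pow _ _ _).symm.trans (congrArg (· ^ p ^ m) ?_)
    refine ((he l.1).res (π.preimage_mono ((hT3 i j l).trans inf_le_right))).bijective.1 ?_
    show _ • _ = _ • _
    have e1 := congrArg (mres M (π.preimage_mono (hT1 i j l))) (hu i j)
    have e2 := congrArg (mres M (π.preimage_mono (hT2 i j l))) (hu j l)
    have e3 := congrArg (mres M (π.preimage_mono (hT3 i j l))) (hu i l)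
    simp only [mres_smul, mres_mres] at e1 e2 e3
    rw [mul_smul]
    exact (congrArg _ e2).trans (e1.trans e3.symm)
  obtain ⟨k, hk1, hk2⟩ := ((eventually_all.2 hev1).and (eventually_all.2 hev2)).exists
  let d : Cocycle X t :=
    { A := fun i => A i.1
      cover := cov
      c := fun i j => a i j ^ p ^ k
      self := hk1
      cocycle := fun i j l x hi hj hl => by
        have := congrArg (X.presheaf.germ (T i j l) x ⟨⟨hi, hj⟩, hl⟩) (hk2 (i, j, l))
        simp only [map_pow, map_mul] at this ⊢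
        rw [← mul_pow]
        rw [Cocycle.germ_mres, Cocycle.germ_mres, Cocycle.germ_mres] at this
        exact this }
  refine ⟨m + k, d.mod, d.isInvertible, ?_⟩
  obtain ⟨e'⟩ := exists_iso_of_frames (fun i : t => π ⁻¹ᵁ A i.1) (fun y => cov (π y))
    (fun i => GenLocus.framePow (e i.1) (p ^ (m + k))) (fun i => (he i.1).framePow _)
    (fun i => pullSec π d.mod _ (d.gen i)) (fun i => (d.isFrame_gen i).pullSec π)
    (fun i j => by
      have hq : π.app (A i.1 ⊓ A j.1) (d.c i j) = u i j ^ p ^ (m + k) := by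
        show π.app (A i.1 ⊓ A j.1) (a i j ^ p ^ k) = _
        rw [map_pow, ha, ← pow_mul, ← pow_add]
      have h2 := pullSec_change (π := π) (d.gen_eq i j)
      rw [hq] at h2
      exact ⟨_, framePow_change (A := π ⁻¹ᵁ A i.1) (B := π ⁻¹ᵁ A j.1) (hu i j) _, h2⟩)
  exact Quot.sound ⟨e'⟩

end Groth.Agent.PerfLib
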