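import Mathlib
import Groth.Agent.PerfLib.Topo
import Groth.Agent.S0416
import Groth.Agent.CAlgH.PerfUH
import Groth.Agent.SmoothReduced.Basic
import Groth.Agent.S14257

/-! Properties of the perfection of a morphism. -/

universe u

open CategoryTheory AlgebraicGeometry Limits Opposite TopologicalSpace

namespace Groth.Agent.PerfLib

variable {p : ℕ} [hp : Fact p.Prime] {X Y XP YP : Scheme.{u}}
  [FrobSch.IsCharP X p] [FrobSch.IsCharP Y p] [FrobSch.IsCharP XP p] [FrobSch.IsCharP YP p]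
  {πX : XP ⟶ X} {πY : YP ⟶ Y} (hX : FrobSch.IsPerfection πX p) (hY : FrobSch.IsPerfection πY p)
  {f : X ⟶ Y} {fP : XP ⟶ YP} (w : fP ≫ πY = πX ≫ f)

include hX hY w

theorem univHomeo_iff : FlatMor.IsUnivHomeo f ↔ FlatMor.IsUnivHomeo fP := by
  have h1 := isUnivHomeo_perfection hX
  have h2 := isUnivHomeo_perfection hY
  have hc : ∀ {A B C : Scheme.{u}} (a : A ⟶ B) (b : B ⟶ C), FlatMor.IsUnivHomeo a → FlatMor.IsUnivHomeo b →
      FlatMor.IsUnivHomeo (a ≫ b) := by
    intro A B C a b ha hb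
    obtain ⟨_, _, _⟩ := (FlatBasics.isUnivHomeo_iff a).mp ha
    obtain ⟨_, _, _⟩ := (FlatBasics.isUnivHomeo_iff b).mp hb
    haveI : UniversallyInjective (a ≫ b) := MorphismProperty.comp_mem @UniversallyInjective a b ‹_› ‹_›
    exact FlatBasics.isUnivHomeo_of
  constructor
  · intro hf
    exact (S0416.result fP πY).2 (w ▸ hc _ _ h1 hf) h2
  · intro hf
    exact (S0416.result πX f).1 (w ▸ hc _ _ hf h2) h1

theorem quasiCompact_iff : QuasiCompact f ↔ QuasiCompact fP := by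
  obtain ⟨_, _, _, _⟩ := inst_of_perfection hX
  obtain ⟨_, _, _, _⟩ := inst_of_perfection hY
  constructor
  · intro _
    haveI : QuasiCompact (fP ≫ πY) := w ▸ inferInstance
    exact QuasiCompact.of_comp fP πY
  · intro _
    haveI : QuasiCompact (πX ≫ f) := w ▸ inferInstance
    exact quasiCompact_of_comp_surjective πX f

theorem quasiSeparated_iff : QuasiSeparated f ↔ QuasiSeparated fP := by
  obtain ⟨_, _, _, _⟩ := inst_of_perfection hX
  obtain ⟨_, _, _, _⟩ := inst_of_perfection hY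
  constructor
  · intro _
    haveI : QuasiSeparated (fP ≫ πY) := w ▸ inferInstance
    exact QuasiSeparated.of_comp fP πY
  · intro _
    haveI : QuasiSeparated (πX ≫ f) := w ▸ inferInstance
    exact quasiSeparated_of_comp_surjective πX f

theorem isSeparated_iff : IsSeparated f ↔ IsSeparated fP := by
  obtain ⟨_, _, _, _⟩ := inst_of_perfection hX
  obtain ⟨_, _, _, _⟩ := inst_of_perfection hY
  constructor
  · intro _
    haveI : IsSeparated (fP ≫ πY) := w ▸ inferInstance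
    exact IsSeparated.of_comp fP πY
  · intro _
    haveI : IsSeparated (πX ≫ f) := w ▸ inferInstance
    exact isSeparated_of_comp_surjective πX f

theorem universallyClosed_iff : UniversallyClosed f ↔ UniversallyClosed fP := by
  obtain ⟨_, _, _, _⟩ := inst_of_perfection hX
  obtain ⟨_, _, _, _⟩ := inst_of_perfection hY
  constructor
  · intro _
    haveI : UniversallyClosed (fP ≫ πY) := w ▸ inferInstance
    exact UniversallyClosed.of_comp_of_isSeparated fP πY
  · intro _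
    haveI : UniversallyClosed (πX ≫ f) := w ▸ inferInstance
    exact UniversallyClosed.of_comp_surjective πX f

theorem isAffineHom_iff : IsAffineHom f ↔ IsAffineHom fP := by
  obtain ⟨_, _, _, _⟩ := inst_of_perfection hX
  obtain ⟨_, _, _, _⟩ := inst_of_perfection hY
  constructor
  · intro _
    haveI : IsAffineHom (fP ≫ πY) := w ▸ inferInstance
    exact IsAffineHom.of_comp fP πY
  · intro _
    haveI : IsAffineHom (πX ≫ f) := w ▸ inferInstance
    haveI : IsSeparated f := isSeparated_of_comp_surjective πX f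
    refine ⟨fun U hU => ?_⟩
    haveI := FrobSch.IsCharP.of_hom (f ⁻¹ᵁ U).ι p
    haveI := FrobSch.IsCharP.of_hom (πX ⁻¹ᵁ f ⁻¹ᵁ U).ι p
    haveI : IsAffine (πX ⁻¹ᵁ f ⁻¹ᵁ U).toScheme :=
      (IsAffineHom.isAffine_preimage (f := πX ≫ f) U hU : IsAffineOpen ((πX ≫ f) ⁻¹ᵁ U))
    haveI : IsAffine U.toScheme := hU
    haveI : QuasiSeparatedSpace (f ⁻¹ᵁ U).toScheme := by
      haveI : QuasiSeparated (f ∣_ U) := inferInstance
      exact quasiSeparatedSpace_of_quasiSeparated (f ∣_ U)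
    exact isAffine_of_perfection (perfection_restrict hX (f ⁻¹ᵁ U))

theorem isPullback_of_perfect (hP : haveI := FrobSch.IsCharP.of_hom (pullback.fst πY f) p; FrobSch.IsPerfect (pullback πY f) p) :
    IsPullback fP πX πY f := by
  haveI := FrobSch.IsCharP.of_hom (pullback.fst πY f) p
  have h' : FrobSch.IsPerfection (pullback.snd πY f) p := by
    refine ⟨hP, fun T _ hT => ⟨fun g g' hg => ?_, fun g => ?_⟩⟩
    · refine pullback.hom_ext ((hY.2 T hT).injective ?_) hg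
      show (g ≫ _) ≫ πY = (g' ≫ _) ≫ πY
      rw [Category.assoc, Category.assoc, pullback.condition, ← Category.assoc, ← Category.assoc]
      exact congrArg (· ≫ f) hg
    · obtain ⟨k, hk : k ≫ πY = g ≫ f⟩ := (hY.2 T hT).surjective (g ≫ f)
      exact ⟨pullback.lift k g hk, pullback.lift_snd _ _ _⟩
  obtain ⟨e, he⟩ := perfection_unique hX h'
  have hfst : e.hom ≫ pullback.fst πY f = fP := (hY.2 XP hX.1).injective (by
    show (e.hom ≫ _) ≫ πY = fP ≫ πY
    rw [Category.assoc, pullback.condition, ← Category.assoc, he, w])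
  exact (IsPullback.of_hasPullback πY f).of_iso e.symm (Iso.refl _) (Iso.refl _) (Iso.refl _)
    (by simp [← hfst]) (by simp [← he]) (by simp) (by simp)

theorem isPullback_of_isOpenImmersion [IsOpenImmersion f] : IsPullback fP πX πY f := by
  haveI := FrobSch.IsCharP.of_hom (pullback.fst πY f) p
  haveI := FrobSch.IsCharP.of_hom (pullback.fst πY f).opensRange.ι p
  exact isPullback_of_perfect hX hY w
    (isPerfect_of_iso (pullback.fst πY f).isoOpensRange (isPerfect_open hY.1 _))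

theorem isOpenImmersion_perf [IsOpenImmersion f] : IsOpenImmersion fP :=
  MorphismProperty.of_isPullback (P := @IsOpenImmersion) (isPullback_of_isOpenImmersion hX hY w).flip ‹_›

theorem appLE_comp_eq (U : Y.Opens) (V : X.Opens) (hV : V ≤ f ⁻¹ᵁ U) :
    ∃ e : πX ⁻¹ᵁ V ≤ fP ⁻¹ᵁ πY ⁻¹ᵁ U,
      πY.app U ≫ fP.appLE (πY ⁻¹ᵁ U) (πX ⁻¹ᵁ V) e = f.appLE U V hV ≫ πX.app V := by
  have e : πX ⁻¹ᵁ V ≤ fP ⁻¹ᵁ πY ⁻¹ᵁ U := by
    rw [← Scheme.Hom.comp_preimage, w, Scheme.Hom.comp_preimage]; exact πX.preimage_mono hV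
  refine ⟨e, ?_⟩
  rw [Scheme.Hom.app_eq_appLE, Scheme.Hom.app_eq_appLE, Scheme.Hom.appLE_comp_appLE, Scheme.Hom.appLE_comp_appLE]
  congr 1

theorem isClosedImmersion_perf [IsClosedImmersion f] : IsClosedImmersion fP := by
  obtain ⟨_, _, _, _⟩ := inst_of_perfection hY
  haveI : IsAffineHom fP := (isAffineHom_iff hX hY w).mp inferInstance
  refine IsZariskiLocalAtTarget.of_iSup_eq_top (P := @IsClosedImmersion) (fun U : Y.affineOpens => πY ⁻¹ᵁ (U : Y.Opens))
    (by rw [← Scheme.Hom.preimage_iSup, iSup_affineOpens_eq_top, Scheme.Hom.preimage_top]) fun U => ?_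
  haveI : IsAffine (πY ⁻¹ᵁ U.1).toScheme := (affine_local hY U.2).1
  haveI : IsAffine (fP ⁻¹ᵁ πY ⁻¹ᵁ U.1).toScheme := (affine_local hY U.2).1.preimage fP
  refine IsClosedImmersion.of_surjective_of_isAffine _ ?_
  have hV : IsAffineOpen (f ⁻¹ᵁ U.1) := U.2.preimage f
  have hsurj : Function.Surjective (f.app U.1) := f.app_surjective U.1 U.2
  obtain ⟨e, he⟩ := appLE_comp_eq hX hY w U.1 (f ⁻¹ᵁ U.1) le_rfl
  rw [← Scheme.Hom.app_eq_appLE] at he
  obtain ⟨-, hpc⟩ := affine_local hX hV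
  have hpre : fP ⁻¹ᵁ πY ⁻¹ᵁ U.1 = πX ⁻¹ᵁ f ⁻¹ᵁ U.1 := by
    rw [← Scheme.Hom.comp_preimage, w, Scheme.Hom.comp_preimage]
  have hs : Function.Surjective (fP.appLE (πY ⁻¹ᵁ U.1) (πX ⁻¹ᵁ f ⁻¹ᵁ U.1) e) := fun b => by
    obtain ⟨n, y, hy⟩ := hpc.pow_mem b
    obtain ⟨c, rfl⟩ := hsurj y
    obtain ⟨a, ha : a ^ p ^ n = πY.app U.1 c⟩ := (bij_pow (bij_sections hY.1 _) n).surjective (πY.app U.1 c)
    refine ⟨a, (bij_pow (bij_sections hX.1 _) n).injective ?_⟩
    show _ ^ p ^ n = b ^ p ^ n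
    rw [← map_pow, ha, ← hy]
    exact congrArg (fun φ => φ.hom c) he
  rw [restrict_appTop]
  refine ((ConcreteCategory.bijective_of_isIso (fP ⁻¹ᵁ πY ⁻¹ᵁ U.1).topIso.inv).2.comp ?_).comp
    (ConcreteCategory.bijective_of_isIso (πY ⁻¹ᵁ U.1).topIso.hom).2
  rw [Scheme.Hom.app_eq_appLE]
  clear he
  revert hs e
  rw [← hpre]
  exact fun e hs => hs

omit hp hX hY w [FrobSch.IsCharP X p] [FrobSch.IsCharP Y p] [FrobSch.IsCharP XP p] [FrobSch.IsCharP YP p] in
theorem lift_into_open (U : Y.Opens) (g : XP ⟶ YP) (hg : Set.range (g ≫ πY) ⊆ U) :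
    Set.range g ⊆ Set.range (πY ⁻¹ᵁ U).ι := by
  rintro _ ⟨x, rfl⟩
  rw [Scheme.Opens.range_ι]
  exact hg ⟨x, rfl⟩

theorem isImmersion_perf [IsImmersion f] : IsImmersion fP := by
  let U := f.coborderRange
  have hg : Set.range (fP ≫ πY) ⊆ U := by
    rw [w]
    rintro _ ⟨x, rfl⟩
    rw [← f.liftCoborder_ι]
    exact (f.liftCoborder (πX x)).2
  let g := IsOpenImmersion.lift (πY ⁻¹ᵁ U).ι fP (lift_into_open U fP hg)
  haveI := FrobSch.IsCharP.of_hom U.ι p
  haveI := FrobSch.IsCharP.of_hom (πY ⁻¹ᵁ U).ι p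
  haveI : IsClosedImmersion g := by
    refine isClosedImmersion_perf (f := f.liftCoborder) hX (perfection_restrict hY U) ?_
    rw [← cancel_mono U.ι, Category.assoc, morphismRestrict_ι, IsOpenImmersion.lift_fac_assoc, w,
      Category.assoc, Scheme.Hom.liftCoborder_ι]
  rw [← IsOpenImmersion.lift_fac (πY ⁻¹ᵁ U).ι fP (lift_into_open U fP hg)]
  exact inferInstanceAs (IsImmersion (g ≫ (πY ⁻¹ᵁ U).ι))

theorem flat_perf [Flat f] : Flat fP := by
  rw [HasRingHomProperty.iff_exists_appLE (P := @Flat) (Q := @RingHom.Flat)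
    (RingHom.Flat.stableUnderComposition.stableUnderCompositionWithLocalizationAway RingHom.Flat.holdsForLocalizationAway).1]
  intro x
  obtain ⟨U, hU, hxU, -⟩ := exists_isAffineOpen_mem_and_subset (X := Y) (x := f (πX x)) (U := ⊤) trivial
  obtain ⟨V, hV, hxV, hVU⟩ := exists_isAffineOpen_mem_and_subset (X := X) (x := πX x) (U := f ⁻¹ᵁ U) hxU
  obtain ⟨hU', hpU⟩ := affine_local hY hU
  obtain ⟨hV', hpV⟩ := affine_local hX hV
  obtain ⟨e, he⟩ := appLE_comp_eq hX hY w U V hVU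
  refine ⟨⟨_, hU'⟩, ⟨_, hV'⟩, hxV, e, ?_⟩
  rcases subsingleton_or_nontrivial Γ(XP, πX ⁻¹ᵁ V) with hs | hn
  · letI := (fP.appLE (πY ⁻¹ᵁ U) (πX ⁻¹ᵁ V) e).hom.toAlgebra
    exact (inferInstance : Module.Flat Γ(YP, πY ⁻¹ᵁ U) Γ(XP, πX ⁻¹ᵁ V))
  · haveI := (fP.appLE (πY ⁻¹ᵁ U) (πX ⁻¹ᵁ V) e).hom.domain_nontrivial
    haveI := (πY.app U).hom.domain_nontrivial
    haveI := (πX.app V).hom.domain_nontrivial
    haveI := charP_of_zero (FrobSch.natCast_eq_zero_app Y p U)
    haveI := charP_of_zero (FrobSch.natCast_eq_zero_app X p V)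
    haveI := charP_of_zero hpU.zero
    haveI := charP_of_zero hpV.zero
    haveI : PerfectRing Γ(YP, πY ⁻¹ᵁ U) p := ⟨hpU.bij⟩
    haveI : PerfectRing Γ(XP, πX ⁻¹ᵁ V) p := ⟨hpV.bij⟩
    haveI := pc_radical hpU
    haveI := pc_radical hpV
    exact CAlgH.PerfUH.flat_perfect p (f.appLE U V hVU).hom (HasRingHomProperty.appLE @Flat f ‹_› ⟨U, hU⟩ ⟨V, hV⟩ hVU)
      (πY.app U).hom (πX.app V).hom (fP.appLE (πY ⁻¹ᵁ U) (πX ⁻¹ᵁ V) e).hom
      ((CommRingCat.hom_comp _ _).symm.trans ((congrArg CommRingCat.Hom.hom he).trans (CommRingCat.hom_comp _ _)))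

theorem surjective_perf [Surjective f] : Surjective fP := by
  obtain ⟨_, _, _, _⟩ := inst_of_perfection hX
  obtain ⟨_, _, _, _⟩ := inst_of_perfection hY
  haveI : Surjective (fP ≫ πY) := w ▸ inferInstance
  exact FlatBasics.surjective_of_comp_injective fP πY (πY.injective)

omit hX w hY in
theorem isPerfect_of_etale {P T : Scheme.{u}} [FrobSch.IsCharP P p] [FrobSch.IsCharP T p] (g : P ⟶ T) [Etale g]
    (hT : FrobSch.IsPerfect T p) : FrobSch.IsPerfect P p := by
  have key : ∀ x : P, ∃ V : P.Opens, x ∈ V ∧ (haveI := FrobSch.IsCharP.of_hom V.ι p; FrobSch.IsPerfect V.toScheme p) := by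
    intro x
    obtain ⟨U, hU, hxU, -⟩ := exists_isAffineOpen_mem_and_subset (X := T) (x := g x) (U := ⊤) trivial
    obtain ⟨V, hV, hxV, hVU⟩ := exists_isAffineOpen_mem_and_subset (X := P) (x := x) (U := g ⁻¹ᵁ U) hxU
    refine ⟨V, hxV, ?_⟩
    haveI := FrobSch.IsCharP.of_hom V.ι p
    haveI := isCharP_spec (p := p) Γ(P, V) (FrobSch.natCast_eq_zero_app P p V)
    refine isPerfect_of_iso hV.isoSpec (isPerfect_spec _ (FrobSch.natCast_eq_zero_app P p V) ?_)
    rcases subsingleton_or_nontrivial Γ(P, V) with hs | hn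
    · exact ⟨fun _ _ _ => Subsingleton.elim _ _, fun b => ⟨b, Subsingleton.elim _ _⟩⟩
    have het : (g.appLE U V hVU).hom.Etale := HasRingHomProperty.appLE @Etale g ‹_› ⟨U, hU⟩ ⟨V, hV⟩ hVU
    algebraize [(g.appLE U V hVU).hom]
    haveI := (g.appLE U V hVU).hom.domain_nontrivial
    haveI := charP_of_zero (FrobSch.natCast_eq_zero_app T p U)
    haveI := charP_of_zero (FrobSch.natCast_eq_zero_app P p V)
    haveI : PerfectRing Γ(T, U) p := ⟨bij_sections hT U⟩
    haveI := CAlgH.PerfUH.isReduced_perfect p Γ(T, U)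
    haveI : _root_.IsReduced Γ(P, V) := SmoothReduced.isReduced_of_smooth Γ(T, U) Γ(P, V)
    exact ⟨fun a b hab => frobenius_inj Γ(P, V) p hab, S14257.exists_root_of_etale p Γ(T, U) Γ(P, V)⟩
  choose V hxV hV using key
  exact isPerfect_of_cover V (eq_top_iff.mpr fun x _ => Opens.mem_iSup.mpr ⟨x, hxV x⟩) hV

theorem isPullback_of_etale [Etale f] : IsPullback fP πX πY f := by
  haveI := FrobSch.IsCharP.of_hom (pullback.fst πY f) p
  exact isPullback_of_perfect hX hY w (isPerfect_of_etale (pullback.fst πY f) hY.1)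

end Groth.Agent.PerfLib
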